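import Mathlib.RingTheory.Henselian
import Mathlib.RingTheory.IsTensorProduct
import Mathlib.RingTheory.Localization.BaseChange
import Mathlib.RingTheory.TensorProduct.Quotient
import Mathlib.LinearAlgebra.TensorProduct.Quotient
import Mathlib.RingTheory.Nakayama

/-!
Two henselian pairs along a principal ideal with the same quotients by its powers: density and
reflection of divisibility for finite modules.
-/

set_option autoImplicit false
set_option linter.style.haveILetI false
universe u v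

open TensorProduct

namespace Groth.L15.FEtHens

variable {A A' : Type u} [CommRing A] [CommRing A'] [Algebra A A'] {t : A}

/-- `A'` is a henselian thickening of `(A, t)` with the same quotients by powers of `t`. -/
structure IsApprox (A A' : Type u) [CommRing A] [CommRing A'] [Algebra A A'] (t : A) : Prop where
  surj : ∀ (n : ℕ) (a' : A'), ∃ a : A, algebraMap A A' t ^ n ∣ a' - algebraMap A A' a
  inj : ∀ (n : ℕ) (a : A), algebraMap A A' t ^ n ∣ algebraMap A A' a → t ^ n ∣ a
  hens : HenselianRing A (Ideal.span {t})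
  hens' : HenselianRing A' (Ideal.span {algebraMap A A' t})

variable (h : IsApprox A A' t) {M : Type v} [AddCommGroup M] [Module A M]

include h

theorem IsApprox.approx (N : ℕ) (d : A' ⊗[A] M) :
    ∃ (m : M) (z : A' ⊗[A] M), d = 1 ⊗ₜ m + t ^ N • z := by
  induction d using TensorProduct.induction_on with
  | zero => exact ⟨0, 0, by simp⟩
  | tmul a' m =>
    obtain ⟨a, b, hb⟩ := h.surj N a'
    refine ⟨a • m, b ⊗ₜ m, ?_⟩
    rw [TensorProduct.tmul_smul, TensorProduct.smul_tmul', TensorProduct.smul_tmul', ← TensorProduct.add_tmul]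
    congr 1
    rw [Algebra.smul_def, Algebra.smul_def, mul_one, map_pow, ← hb]
    ring
  | add x y hx hy =>
    obtain ⟨m, z, rfl⟩ := hx
    obtain ⟨m', z', rfl⟩ := hy
    exact ⟨m + m', z + z', by rw [TensorProduct.tmul_add, smul_add]; abel⟩

theorem IsApprox.exists_reduction (N : ℕ) :
    ∃ σ : A' →ₗ[A] A ⧸ Ideal.span {t ^ N}, σ 1 = Ideal.Quotient.mk _ 1 := by
  let I' : Ideal A' := Ideal.span {algebraMap A A' t ^ N}
  let f : (A ⧸ Ideal.span {t ^ N}) →ₐ[A] A' ⧸ I' :=
    Ideal.Quotient.liftₐ _ (Algebra.ofId A (A' ⧸ I')) (fun a ha => by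
      obtain ⟨c, rfl⟩ := Ideal.mem_span_singleton.1 ha
      show Ideal.Quotient.mk I' (algebraMap A A' (t ^ N * c)) = 0
      rw [Ideal.Quotient.eq_zero_iff_mem, map_mul, map_pow]
      exact I'.mul_mem_right _ (Ideal.mem_span_singleton_self _))
  have hf : Function.Bijective f := by
    refine ⟨(injective_iff_map_eq_zero f).2 fun x hx => ?_, fun y => ?_⟩
    · obtain ⟨a, rfl⟩ := Ideal.Quotient.mk_surjective x
      have h1 : Ideal.Quotient.mk I' (algebraMap A A' a) = 0 := hx
      rw [Ideal.Quotient.eq_zero_iff_mem] at h1 ⊢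
      exact Ideal.mem_span_singleton.2 (h.inj N a (Ideal.mem_span_singleton.1 h1))
    · obtain ⟨a', rfl⟩ := Ideal.Quotient.mk_surjective y
      obtain ⟨a, ha⟩ := h.surj N a'
      exact ⟨Ideal.Quotient.mk _ a, ((Ideal.Quotient.eq (I := I')).2 (Ideal.mem_span_singleton.2 ha)).symm⟩
  refine ⟨(AlgEquiv.ofBijective f hf).symm.toLinearMap.comp (Ideal.Quotient.mkₐ A I').toLinearMap, ?_⟩
  show (AlgEquiv.ofBijective f hf).symm 1 = _
  rw [map_one, map_one]

theorem IsApprox.exists_eq_smul (N : ℕ) {m : M} {z : A' ⊗[A] M} (hm : 1 ⊗ₜ m = t ^ N • z) :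
    ∃ m' : M, m = t ^ N • m' := by
  obtain ⟨σ, hσ⟩ := h.exists_reduction N
  let ρ : A' ⊗[A] M →ₗ[A] M ⧸ (Ideal.span {t ^ N} • (⊤ : Submodule A M)) :=
    (TensorProduct.quotTensorEquivQuotSMul M (Ideal.span {t ^ N})).toLinearMap ∘ₗ σ.rTensor M
  have h1 := congrArg ρ hm
  rw [map_smul] at h1
  have h2 : ∀ q : M ⧸ (Ideal.span {t ^ N} • (⊤ : Submodule A M)), t ^ N • q = 0 := fun q => by
    obtain ⟨x, rfl⟩ := Submodule.Quotient.mk_surjective _ q
    rw [← Submodule.Quotient.mk_smul, Submodule.Quotient.mk_eq_zero]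
    exact Submodule.smul_mem_smul (Ideal.mem_span_singleton_self _) trivial
  rw [h2] at h1
  have h3 : ρ ((1 : A') ⊗ₜ[A] m) = Submodule.Quotient.mk ((1 : A) • m) := by
    show TensorProduct.quotTensorEquivQuotSMul M (Ideal.span {t ^ N}) (σ 1 ⊗ₜ[A] m) = _
    rw [hσ]
    exact TensorProduct.quotTensorEquivQuotSMul_mk_tmul _ _ _
  rw [h3, one_smul, Submodule.Quotient.mk_eq_zero] at h1
  rw [Submodule.ideal_span_singleton_smul] at h1
  obtain ⟨m', -, hm'⟩ := h1
  exact ⟨m', hm'.symm⟩

/-- A finite module whose base change is `t`-power torsion is `t`-power torsion. -/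
theorem IsApprox.exists_smul_eq_zero [Module.Finite A M]
    (hm : ∀ m : M, ∃ k : ℕ, t ^ k • ((1 : A') ⊗ₜ[A] m) = 0) : ∃ k : ℕ, ∀ m : M, t ^ k • m = 0 := by
  classical
  obtain ⟨S, hS⟩ := Module.Finite.fg_top (R := A) (M := M)
  choose k hk using hm
  refine ⟨S.sup k, fun m => ?_⟩
  let P : Submodule A M := Submodule.map (DistribSMul.toLinearMap A M (t ^ S.sup k)) ⊤
  have hP : P = ⊥ := by
    refine Submodule.eq_bot_of_le_smul_of_le_jacobson_bot (Ideal.span {t}) P
      (Submodule.FG.map _ Module.Finite.fg_top) ?_ h.hens.jac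
    rintro _ ⟨x, -, rfl⟩
    show t ^ S.sup k • x ∈ _
    have hx : x ∈ Submodule.span A (S : Set M) := hS ▸ trivial
    induction hx using Submodule.span_induction with
    | zero => rw [smul_zero]; exact zero_mem _
    | add a b _ _ ha hb => rw [smul_add]; exact add_mem ha hb
    | smul c a _ ha => rw [smul_comm]; exact Submodule.smul_mem _ _ ha
    | mem a ha =>
      have h0 : t ^ S.sup k • ((1 : A') ⊗ₜ[A] a) = 0 := by
        rw [← Nat.sub_add_cancel (Finset.le_sup (f := k) ha), pow_add, mul_smul, hk, smul_zero]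
      have h1 : (1 : A') ⊗ₜ[A] (t ^ S.sup k • a) = t ^ (S.sup k + 1) • (0 : A' ⊗[A] M) := by
        rw [TensorProduct.tmul_smul, h0, smul_zero]
      obtain ⟨m', hm'⟩ := h.exists_eq_smul _ h1
      rw [hm', pow_succ', mul_smul]
      exact Submodule.smul_mem_smul (Ideal.mem_span_singleton_self t) ⟨m', trivial, rfl⟩
  exact (Submodule.eq_bot_iff _).1 hP _ ⟨m, trivial, rfl⟩

omit h

section Localized

variable (t) (A₀ A₁ : Type u) [CommRing A₀] [CommRing A₁] [Algebra A A₀] [Algebra A A₁] [Algebra A' A₁]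
  [Algebra A₀ A₁] [IsScalarTower A A' A₁] [IsScalarTower A A₀ A₁]
  {N : Type v} [AddCommGroup N] [Module A₀ N] [Module A N] [IsScalarTower A A₀ N]

/-- The comparison of base change of a lattice with the base change of its localization. -/
noncomputable def tensorMap (f : M →ₗ[A] N) : A' ⊗[A] M →ₗ[A'] A₁ ⊗[A₀] N :=
  TensorProduct.AlgebraTensorModule.lift
    ((LinearMap.toSpanSingleton A' (M →ₗ[A] A₁ ⊗[A₀] N))
      ((TensorProduct.mk A₀ A₁ N 1).restrictScalars A ∘ₗ f))

theorem tensorMap_tmul (f : M →ₗ[A] N) (a' : A') (m : M) :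
    tensorMap A₀ A₁ f (a' ⊗ₜ m) = algebraMap A' A₁ a' ⊗ₜ[A₀] f m := by
  show a' • ((1 : A₁) ⊗ₜ[A₀] f m) = _
  rw [TensorProduct.smul_tmul', Algebra.smul_def, mul_one]

/-- Base change commutes with inverting `t`. -/
theorem isLocalizedModule_tensorMap [IsLocalization.Away t A₀]
    [IsLocalization.Away (algebraMap A A' t) A₁] (f : M →ₗ[A] N)
    [IsLocalizedModule (Submonoid.powers t) f] :
    IsLocalizedModule (Submonoid.powers (algebraMap A A' t)) (tensorMap (A' := A') A₀ A₁ f) := by
  have h1 : IsBaseChange A₀ f := (isLocalizedModule_iff_isBaseChange (Submonoid.powers t) A₀ f).1 inferInstance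
  have h2 : IsBaseChange A₁ ((TensorProduct.mk A₀ A₁ N 1).restrictScalars A ∘ₗ f) :=
    IsBaseChange.comp h1 (TensorProduct.isBaseChange A₀ N A₁)
  rw [isLocalizedModule_iff_isBaseChange (Submonoid.powers (algebraMap A A' t)) A₁]
  refine IsBaseChange.of_comp (TensorProduct.isBaseChange A M A') ?_
  convert h2 using 1
  ext m
  show tensorMap A₀ A₁ f ((1 : A') ⊗ₜ m) = _
  rw [tensorMap_tmul, map_one]
  rfl

end Localized

end Groth.L15.FEtHens
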