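import Mathlib.RingTheory.ZariskisMainTheorem
import Mathlib.RingTheory.Unramified.LocalStructure
import Mathlib.RingTheory.Etale.Basic
import Mathlib.RingTheory.TensorProduct.Maps

/-!
An étale algebra is covered by basic opens of a finite subalgebra.
-/

set_option autoImplicit false
set_option linter.style.haveILetI false
universe u

open TensorProduct

namespace Groth.L15.FEtHens

variable {R E : Type u} [CommRing R] [CommRing E] [Algebra R E]

theorem exists_finite_open [Algebra.Etale R E] :
    ∃ D : Subalgebra R E, Module.Finite R D ∧ ∃ s : Finset D,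
      Ideal.span ((↑) '' (s : Set D) : Set E) = ⊤ ∧ ∀ r ∈ s, ∀ x : E, ∃ k : ℕ, (r : E) ^ k * x ∈ D := by
  classical
  haveI : Algebra.QuasiFinite R E := inferInstance
  have hP : ∀ P : PrimeSpectrum E, ∃ S' : Subalgebra R E, S'.toSubmodule.FG ∧ ∃ r : S',
      r.1 ∉ P.asIdeal ∧ Function.Bijective (Localization.awayMap S'.val.toRingHom r) :=
    fun P => Algebra.QuasiFiniteAt.exists_fg_and_exists_notMem_and_awayMap_bijective P.asIdeal
  choose S' hS' r hr hbij using hP
  have hsur : ∀ (P : PrimeSpectrum E) (x : E), ∃ k : ℕ, (r P : E) ^ k * x ∈ S' P := by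
    intro P x
    obtain ⟨y, hy⟩ := (hbij P).2 (algebraMap E _ x)
    obtain ⟨⟨a, ⟨_, n, rfl⟩⟩, ha⟩ := IsLocalization.surj (Submonoid.powers (r P)) y
    have h1 := congrArg (Localization.awayMap (S' P).val.toRingHom (r P)) ha
    rw [map_mul, hy] at h1
    simp only [Localization.awayMap, IsLocalization.Away.map, IsLocalization.map_eq] at h1
    rw [← map_mul, IsLocalization.eq_iff_exists (Submonoid.powers ((S' P).val.toRingHom (r P)))] at h1
    obtain ⟨⟨_, k, rfl⟩, hk⟩ := h1
    refine ⟨k + n, ?_⟩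
    have h2 : (r P : E) ^ k * (x * (r P : E) ^ n) = (r P : E) ^ k * (a : E) := by simpa using hk
    rw [pow_add, mul_assoc, mul_comm ((r P : E) ^ n), h2]
    exact (S' P).mul_mem ((S' P).pow_mem (r P).2 k) a.2
  have hspan : Ideal.span (Set.range fun P => (r P : E)) = ⊤ := by
    by_contra hne
    obtain ⟨m, hm, hle⟩ := Ideal.exists_le_maximal _ hne
    exact hr ⟨m, hm.isPrime⟩ (hle (Ideal.subset_span ⟨_, rfl⟩))
  obtain ⟨T, hTsub, hT⟩ := Submodule.mem_span_finite_of_mem_span ((Ideal.eq_top_iff_one _).1 hspan)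
  choose P hP using fun y : T => hTsub y.2
  let D := Algebra.adjoin R (⋃ y : T, ((hS' (P y)).choose : Set E))
  have hle : ∀ y : T, S' (P y) ≤ D := fun y z hz => by
    have : z ∈ Submodule.span R ((hS' (P y)).choose : Set E) := (hS' (P y)).choose_spec.ge hz
    exact (Submodule.span_le.2 (fun w hw => Algebra.subset_adjoin (Set.mem_iUnion.2 ⟨y, hw⟩)) :
      _ ≤ Subalgebra.toSubmodule D) this
  haveI : Module.Finite R D := ⟨(Submodule.fg_top _).2 (fg_adjoin_of_finite
    (Set.finite_iUnion fun y => Finset.finite_toSet _) fun w hw => by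
      obtain ⟨y, hy⟩ := Set.mem_iUnion.1 hw
      have hw' : w ∈ S' (P y) := (hS' (P y)).choose_spec.le (Submodule.subset_span hy)
      exact IsIntegral.of_mem_of_fg _ (hS' (P y)) w hw')⟩
  let r' : T → D := fun y => ⟨(r (P y) : E), hle y (r (P y)).2⟩
  refine ⟨D, inferInstance, Finset.univ.image r', ?_, ?_⟩
  · rw [Ideal.eq_top_iff_one]
    refine Ideal.span_mono ?_ hT
    intro y hy
    exact ⟨r' ⟨y, hy⟩, Finset.mem_coe.2 (Finset.mem_image_of_mem _ (Finset.mem_univ _)), hP ⟨y, hy⟩⟩
  · intro z hz x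
    obtain ⟨y, -, rfl⟩ := Finset.mem_image.1 hz
    obtain ⟨k, hk⟩ := hsur (P y) x
    exact ⟨k, hle y hk⟩

variable {D : Subalgebra R E} {r : D}

/-- A localization of the ambient algebra is a localization of the finite subalgebra. -/
theorem isLocalization_away_subalgebra (h : ∀ x : E, ∃ k : ℕ, (r : E) ^ k * x ∈ D) (L : Type u) [CommRing L]
    [Algebra E L] [IsLocalization.Away (r : E) L] [Algebra D L]
    (hmap : ∀ d : D, algebraMap D L d = algebraMap E L d) : IsLocalization.Away r L := by
  refine IsLocalization.Away.mk r ?_ (fun z => ?_) (fun a b hab => ?_)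
  · rw [hmap]
    exact IsLocalization.Away.algebraMap_isUnit (r : E)
  · obtain ⟨n, a, ha⟩ := IsLocalization.Away.surj (r : E) z
    obtain ⟨k, hk⟩ := h a
    refine ⟨k + n, ⟨_, hk⟩, ?_⟩
    rw [hmap, hmap, pow_add, ← mul_assoc, mul_comm z, mul_assoc, ha, ← map_pow, ← map_mul]
  · rw [hmap, hmap] at hab
    obtain ⟨n, hn⟩ := IsLocalization.Away.exists_of_eq (r : E) hab
    exact ⟨n, Subtype.val_injective (by simpa using hn)⟩

/-- After base change, the kernel of the inclusion is killed by a power of `r`. -/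
theorem exists_pow_mul_eq_zero (h : ∀ x : E, ∃ k : ℕ, (r : E) ^ k * x ∈ D) (A₁ : Type u) [CommRing A₁]
    [Algebra R A₁] {z : A₁ ⊗[R] D} (hz : Algebra.TensorProduct.map (AlgHom.id R A₁) D.val z = 0) :
    ∃ k : ℕ, ((1 : A₁) ⊗ₜ[R] r) ^ k * z = 0 := by
  let L := Localization.Away (r : E)
  haveI : IsLocalization.Away r L := isLocalization_away_subalgebra h L fun _ => rfl
  let ρ : A₁ ⊗[R] D := (1 : A₁) ⊗ₜ r
  let M := Localization.Away ρ
  let f : D →ₐ[R] M :=
    (IsScalarTower.toAlgHom R (A₁ ⊗[R] D) M).comp Algebra.TensorProduct.includeRight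
  have hf : IsUnit (f r) := IsLocalization.Away.algebraMap_isUnit ρ
  let g : L →ₐ[R] M := IsLocalization.Away.liftAlgHom r hf
  let G : A₁ ⊗[R] L →ₐ[R] M := Algebra.TensorProduct.lift
    ((IsScalarTower.toAlgHom R (A₁ ⊗[R] D) M).comp Algebra.TensorProduct.includeLeft) g
    (fun _ _ => Commute.all _ _)
  have hG : ∀ w : A₁ ⊗[R] D,
      G (Algebra.TensorProduct.map (AlgHom.id R A₁) (IsScalarTower.toAlgHom R E L)
        (Algebra.TensorProduct.map (AlgHom.id R A₁) D.val w)) = algebraMap _ M w := by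
    intro w
    induction w using TensorProduct.induction_on with
    | zero => simp
    | tmul a d =>
      have h1 : g (algebraMap E L (d : E)) = f d := by
        rw [show algebraMap E L (d : E) = algebraMap D L d from rfl]
        exact IsLocalization.Away.lift_eq r (g := f.toRingHom) hf d
      simp only [Algebra.TensorProduct.map_tmul, G, Algebra.TensorProduct.lift_tmul, AlgHom.coe_id, id_eq,
        AlgHom.comp_apply, IsScalarTower.coe_toAlgHom', Subalgebra.coe_val, h1, f]
      rw [← map_mul, Algebra.TensorProduct.includeLeft_apply, Algebra.TensorProduct.includeRight_apply,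
        Algebra.TensorProduct.tmul_mul_tmul, mul_one, one_mul]
    | add a b ha hb => rw [map_add, map_add, map_add, map_add, ha, hb]
  have h0 : algebraMap (A₁ ⊗[R] D) M z = 0 := by rw [← hG, hz, map_zero, map_zero]
  obtain ⟨⟨_, k, rfl⟩, hk⟩ := (IsLocalization.map_eq_zero_iff (Submonoid.powers ρ) M z).1 h0
  exact ⟨k, hk⟩

end Groth.L15.FEtHens
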