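import Groth.Agent.L15.FEtHens.Newton
import Mathlib.RingTheory.Smooth.StandardSmoothOfFree
import Mathlib.RingTheory.Localization.Integer
import Mathlib.Algebra.MvPolynomial.PDeriv
import Mathlib.RingTheory.Ideal.Quotient.Operations

/-!
Square systems describing étale algebras, their rescaling and approximation of their coefficients.
-/

set_option autoImplicit false
set_option linter.style.haveILetI false
universe u v

open MvPolynomial

namespace Groth.L15.FEtHens

variable {R : Type u} [CommRing R]

/-- The jacobian determinant of a square system. -/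
noncomputable def jac {σ : Type} [Fintype σ] [DecidableEq σ] (g : σ → MvPolynomial σ R) : MvPolynomial σ R :=
  (Matrix.of fun i j => pderiv i (g j)).det

theorem map_jac {σ : Type} [Fintype σ] [DecidableEq σ] {S : Type v} [CommRing S] (φ : R →+* S)
    (g : σ → MvPolynomial σ R) : map φ (jac g) = jac fun j => map φ (g j) := by
  rw [jac, RingHom.map_det, jac]
  congr 1
  ext i j : 1
  simp [pderiv_map]

/-- An étale algebra is described by a square system with invertible jacobian. -/
theorem exists_square_system (C : Type u) [CommRing C] [Algebra R C] [Algebra.Etale R C] :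
    ∃ (σ : Type) (_ : Fintype σ) (_ : DecidableEq σ) (c : σ → C) (g : σ → MvPolynomial σ R),
      Function.Surjective (aeval c : MvPolynomial σ R →ₐ[R] C) ∧ (∀ j, aeval c (g j) = 0) ∧
      IsUnit (aeval c (jac g)) := by
  classical
  cases subsingleton_or_nontrivial C with
  | inl h =>
    exact ⟨Empty, inferInstance, inferInstance, Empty.elim, Empty.elim,
      fun z => ⟨0, Subsingleton.elim _ _⟩, fun j => j.elim, isUnit_of_subsingleton _⟩
  | inr h => ?_
  haveI := (Algebra.Etale.iff_isStandardSmoothOfRelativeDimension_zero (R := R) (S := C)).1 inferInstance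
  obtain ⟨ι, τ, _, _, P, hP⟩ := Algebra.IsStandardSmoothOfRelativeDimension.out (n := 0) (R := R) (S := C)
  cases nonempty_fintype τ
  cases nonempty_fintype ι
  have hbij : Function.Bijective P.map := P.map_inj.bijective_of_nat_card_le (by
    rw [Algebra.Presentation.dimension] at hP
    omega)
  let e := Equiv.ofBijective P.map hbij
  refine ⟨ι, inferInstance, inferInstance, P.val, fun j => P.relation (e.symm j),
    fun z => ⟨P.σ z, P.aeval_val_σ z⟩, fun j => P.aeval_val_relation _, ?_⟩
  have h1 : jac (fun j => P.relation (e.symm j)) = P.jacobiMatrix.det := by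
    rw [jac, ← Matrix.det_submatrix_equiv_self e]
    congr 1
    ext i j : 1
    rw [Algebra.PreSubmersivePresentation.jacobiMatrix_apply, Matrix.submatrix_apply, Matrix.of_apply,
      Equiv.symm_apply_apply]
    rfl
  rw [h1]
  have h2 := P.jacobian_isUnit
  rw [Algebra.PreSubmersivePresentation.jacobian_eq_jacobiMatrix_det, Algebra.Generators.algebraMap_apply] at h2
  exact h2

/-- Rescaling the unknowns and the equations. -/
theorem exists_scaled {σ : Type} [Fintype σ] [DecidableEq σ] {C : Type v} [CommRing C] [Algebra R C]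
    {c : σ → C} {g : σ → MvPolynomial σ R} (hs : Function.Surjective (aeval c : MvPolynomial σ R →ₐ[R] C))
    (hg : ∀ j, aeval c (g j) = 0) (hu : IsUnit (aeval c (jac g))) (a b : Rˣ) :
    ∃ g' : σ → MvPolynomial σ R, (∀ j, g' j = MvPolynomial.C (b : R) * bind₁ (fun i => MvPolynomial.C ((a⁻¹ : Rˣ) : R) * X i) (g j)) ∧
      Function.Surjective (aeval (fun i => (a : R) • c i) : MvPolynomial σ R →ₐ[R] C) ∧
      (∀ j, aeval (fun i => (a : R) • c i) (g' j) = 0) ∧ IsUnit (aeval (fun i => (a : R) • c i) (jac g')) := by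
  let f : σ → MvPolynomial σ R := fun i => MvPolynomial.C ((a⁻¹ : Rˣ) : R) * X i
  have hf : ∀ p : MvPolynomial σ R, aeval (fun i => (a : R) • c i) (bind₁ f p) = aeval c p := fun p => by
    rw [aeval_bind₁]
    congr 2
    funext i
    show aeval _ (MvPolynomial.C _ * X i) = _
    rw [map_mul, aeval_C, aeval_X, Algebra.smul_def, ← mul_assoc, ← map_mul, Units.inv_mul, map_one, one_mul]
  have hpd : ∀ (p : MvPolynomial σ R) (i : σ),
      pderiv i (bind₁ f p) = MvPolynomial.C ((a⁻¹ : Rˣ) : R) * bind₁ f (pderiv i p) := by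
    intro p i
    induction p using MvPolynomial.induction_on with
    | C r => simp
    | add p q hp hq => rw [map_add, map_add, hp, hq, map_add, map_add, mul_add]
    | mul_X p j hp =>
      rw [map_mul, pderiv_mul, pderiv_mul, hp, map_add, map_mul, map_mul, bind₁_X_right]
      simp only [f, pderiv_C_mul, pderiv_X, Algebra.smul_def, algebraMap_eq, Pi.single_apply]
      by_cases hij : j = i
      · subst hij; simp [mul_add, mul_assoc, mul_left_comm, mul_comm]
      · simp [hij, mul_assoc, mul_left_comm]
  refine ⟨fun j => MvPolynomial.C (b : R) * bind₁ f (g j), fun j => rfl, fun z => ?_, fun j => ?_, ?_⟩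
  · obtain ⟨p, rfl⟩ := hs z
    exact ⟨bind₁ f p, hf p⟩
  · rw [map_mul, hf, hg, mul_zero]
  · have h1 : jac (fun j => MvPolynomial.C (b : R) * bind₁ f (g j)) =
        MvPolynomial.C (((b : R) * ((a⁻¹ : Rˣ) : R)) ^ Fintype.card σ) * bind₁ f (jac g) := by
      rw [jac, C_pow, C_mul, jac, AlgHom.map_det, ← Matrix.det_smul]
      congr 1
      ext i j : 1
      simp only [Matrix.of_apply, Matrix.smul_apply, AlgHom.mapMatrix_apply, Matrix.map_apply, smul_eq_mul,
        pderiv_C_mul, Algebra.smul_def, algebraMap_eq, hpd, mul_assoc]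
    rw [h1, map_mul, hf, aeval_C]
    exact (((b.isUnit.mul (a⁻¹).isUnit).pow _).map _).mul hu

/-- A polynomial over a localization becomes integral after scaling. -/
theorem exists_integral_multiple {R₁ : Type v} [CommRing R₁] [Algebra R R₁] (r : R) [IsLocalization.Away r R₁]
    {ι : Type} [Finite ι] {σ : Type} (g : ι → MvPolynomial σ R₁) :
    ∃ (m : ℕ) (G : ι → MvPolynomial σ R), ∀ j,
      map (algebraMap R R₁) (G j) = MvPolynomial.C (algebraMap R R₁ r ^ m) * g j := by
  classical
  cases nonempty_fintype ι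
  suffices h : ∀ p : MvPolynomial σ R₁, ∃ (m : ℕ) (G : MvPolynomial σ R),
      map (algebraMap R R₁) G = MvPolynomial.C (algebraMap R R₁ r ^ m) * p by
    choose m G hG using fun j => h (g j)
    refine ⟨Finset.univ.sup m, fun j => MvPolynomial.C (r ^ (Finset.univ.sup m - m j)) * G j, fun j => ?_⟩
    rw [map_mul, map_C, hG, ← mul_assoc, ← C_mul, map_pow, ← pow_add, Nat.sub_add_cancel (Finset.le_sup (Finset.mem_univ j))]
  intro p
  induction p using MvPolynomial.induction_on with
  | C a =>
    obtain ⟨⟨b, ⟨_, m, rfl⟩⟩, hb⟩ := IsLocalization.surj (Submonoid.powers r) a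
    refine ⟨m, MvPolynomial.C b, ?_⟩
    rw [map_C, ← C_mul, mul_comm, ← hb, map_pow]
  | add p q hp hq =>
    obtain ⟨m, G, hG⟩ := hp
    obtain ⟨n, H, hH⟩ := hq
    refine ⟨m + n, MvPolynomial.C (r ^ n) * G + MvPolynomial.C (r ^ m) * H, ?_⟩
    simp only [map_add, map_mul, map_C, hG, hH, map_pow, pow_add, C_mul]
    ring
  | mul_X p i hp =>
    obtain ⟨m, G, hG⟩ := hp
    exact ⟨m, G * X i, by rw [map_mul, hG, map_X, mul_assoc]⟩

/-- Coefficientwise approximation of polynomials. -/
theorem exists_approx_poly {S : Type v} [CommRing S] [Algebra R S] {τ : S}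
    (h : ∀ s : S, ∃ r : R, τ ∣ s - algebraMap R S r) {σ : Type} (G : MvPolynomial σ S) :
    ∃ G' : MvPolynomial σ R, MvPolynomial.C τ ∣ G - map (algebraMap R S) G' := by
  induction G using MvPolynomial.induction_on with
  | C a =>
    obtain ⟨r, hr⟩ := h a
    exact ⟨MvPolynomial.C r, by rw [map_C, ← C_sub]; exact map_dvd _ hr⟩
  | add p q hp hq =>
    obtain ⟨p', hp'⟩ := hp
    obtain ⟨q', hq'⟩ := hq
    exact ⟨p' + q', by rw [map_add, add_sub_add_comm]; exact dvd_add hp' hq'⟩
  | mul_X p i hp =>
    obtain ⟨p', hp'⟩ := hp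
    exact ⟨p' * X i, by rw [map_mul, map_X, ← sub_mul]; exact hp'.mul_right _⟩

/-- Congruent systems have congruent jacobians. -/
theorem dvd_jac_sub {σ : Type} [Fintype σ] [DecidableEq σ] {τ : R} {g g' : σ → MvPolynomial σ R}
    (h : ∀ j, MvPolynomial.C τ ∣ g j - g' j) : MvPolynomial.C τ ∣ jac g - jac g' := by
  rw [← Ideal.mem_span_singleton, ← Ideal.Quotient.eq, jac, jac, RingHom.map_det, RingHom.map_det]
  congr 1
  ext i j
  simp only [RingHom.mapMatrix_apply, Matrix.map_apply, Matrix.of_apply]
  rw [Ideal.Quotient.eq, Ideal.mem_span_singleton, ← map_sub]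
  obtain ⟨q, hq⟩ := h j
  rw [hq, pderiv_C_mul]
  exact dvd_mul_right _ _

end Groth.L15.FEtHens
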