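import Groth.Agent.L15.FEtHens.Hom
import Groth.Agent.L15.FEtHens.Square
import Groth.Agent.L15.FEtHens.Open
import Mathlib.RingTheory.RingHom.Etale

/-!
Finite étale algebras descend along a henselian comparison of localizations.
-/

set_option autoImplicit false
set_option linter.style.haveILetI false
universe u

open TensorProduct MvPolynomial

namespace Groth.L15.FEtHens

variable {A A' A₀ A₁ : Type u} [CommRing A] [CommRing A'] [Algebra A A'] [CommRing A₀] [CommRing A₁]
  [Algebra A A₀] [Algebra A A₁] [Algebra A' A₁] [Algebra A₀ A₁] [IsScalarTower A A' A₁]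
  [IsScalarTower A A₀ A₁] {t : A} [IsLocalization.Away t A₀]
  [IsLocalization.Away (algebraMap A A' t) A₁] (h : IsApprox A A' t)

include h

/-- The étale algebra over the small ring surjecting to the given one after base change. -/
theorem IsApprox.exists_etale_surjection (C : Type u) [CommRing C] [Algebra A₁ C] [Module.Finite A₁ C]
    [Algebra.Etale A₁ C] :
    ∃ (E : Type u) (_ : CommRing E) (_ : Algebra A₀ E) (_ : Algebra.Etale A₀ E)
      (π : A₁ ⊗[A₀] E →ₐ[A₁] C), Function.Surjective π := by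
  classical
  letI := ((algebraMap A₁ C).comp (algebraMap A' A₁)).toAlgebra
  haveI : IsScalarTower A' A₁ C := IsScalarTower.of_algebraMap_eq fun _ => rfl
  letI := ((algebraMap A₁ C).comp (algebraMap A₀ A₁)).toAlgebra
  haveI : IsScalarTower A₀ A₁ C := IsScalarTower.of_algebraMap_eq fun _ => rfl
  obtain ⟨σ, _, _, c₀, g₀, hsur₀, hg₀, hu₀⟩ := exists_square_system (R := A₁) C
  set t' := algebraMap A A' t with ht'
  -- integral generators and equations
  choose k hk using fun i => (Algebra.IsIntegral.isIntegral (R := A₁) (c₀ i)).exists_multiple_integral_of_isLocalization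
    (Submonoid.powers t') (c₀ i)
  let K : Submonoid.powers t' := ∏ i, k i
  have hKint : ∀ i, IsIntegral A' ((K : A') • c₀ i) := fun i => by
    have hd : K = (∏ j ∈ Finset.univ.erase i, k j) * k i := by
      rw [Finset.prod_erase_mul _ _ (Finset.mem_univ i)]
    rw [hd, Submonoid.coe_mul, mul_smul]
    exact IsIntegral.smul _ (hk i)
  obtain ⟨a, ha⟩ : ∃ a : A₁ˣ, (a : A₁) = algebraMap A' A₁ K :=
    ⟨(IsLocalization.map_units A₁ K).unit, rfl⟩
  obtain ⟨g₁, hg₁, -⟩ := exists_scaled hsur₀ hg₀ hu₀ a 1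
  obtain ⟨m, G₀, hG₀⟩ := exists_integral_multiple t' (fun j => g₁ j)
  obtain ⟨b, hb⟩ : ∃ b : A₁ˣ, (b : A₁) = algebraMap A' A₁ t' ^ m :=
    ⟨((IsLocalization.Away.algebraMap_isUnit (S := A₁) t').pow m).unit, rfl⟩
  obtain ⟨g, hgdef, hsur, hg, hu⟩ := exists_scaled hsur₀ hg₀ hu₀ a b
  have hgG : ∀ j, map (algebraMap A' A₁) (G₀ j) = g j := fun j => by
    rw [hG₀, hgdef, hg₁, hb, Units.val_one, C_1, one_mul]
  set c : σ → C := fun i => (a : A₁) • c₀ i with hc
  have hcint : ∀ i, IsIntegral A' (c i) := fun i => by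
    have : c i = (K : A') • c₀ i := by
      show (a : A₁) • c₀ i = _
      rw [ha, IsScalarTower.algebraMap_smul]
    rw [this]
    exact hKint i
  obtain ⟨L₀, hLfin, hLc, hLloc⟩ := exists_lattice (R₀ := A₁) t' C (Finset.univ.image c) (by
    intro s hs
    obtain ⟨i, -, rfl⟩ := Finset.mem_image.1 hs
    exact hcint i)
  haveI : HenselianRing L₀ (Ideal.span {algebraMap A' L₀ t'}) := by
    have := h.hens'
    have := Groth.L05.henselianRing_map_of_isIntegral (Ideal.span {t'}) L₀
    rwa [Ideal.map_span, Set.image_singleton] at this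
  set τ : L₀ := algebraMap A' L₀ t' with hτdef
  have htC : IsUnit (algebraMap A' C t') := by
    rw [IsScalarTower.algebraMap_apply A' A₁ C]
    exact (IsLocalization.Away.algebraMap_isUnit (S := A₁) t').map _
  have hτreg : IsRegular τ := by
    have hl : IsLeftRegular τ := fun x y hxy => Subtype.val_injective
      (htC.mul_left_cancel (congrArg L₀.val hxy))
    exact ⟨hl, fun x y hxy => hl (by simpa [mul_comm τ] using hxy)⟩
  let cL : σ → L₀ := fun i => ⟨c i, hLc (Finset.mem_coe.2 (Finset.mem_image_of_mem _ (Finset.mem_univ i)))⟩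
  have hval : ∀ (bL : σ → L₀) (P : MvPolynomial σ A'),
      ((eval bL (map (algebraMap A' L₀) P) : L₀) : C) = aeval (fun i => (bL i : C)) (map (algebraMap A' A₁) P) := by
    intro bL P
    rw [eval_map, ← aeval_def, aeval_map_algebraMap]
    exact comp_aeval_apply (f := bL) L₀.val P
  have hval' : ∀ (bL : σ → L₀) (P : MvPolynomial σ A), ((eval bL (map (algebraMap A' L₀) (map (algebraMap A A') P)) : L₀) : C) =
      aeval (fun i => (bL i : C)) (map (algebraMap A A₀) P) := by
    intro bL P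
    rw [hval, MvPolynomial.map_map, ← IsScalarTower.algebraMap_eq, IsScalarTower.algebraMap_eq A A₀ A₁, ← MvPolynomial.map_map,
      aeval_map_algebraMap]
  have hsurjL : ∀ z : C, ∃ (n : ℕ) (x : L₀), t' ^ n • z = (x : C) := fun z => by
    obtain ⟨⟨x, ⟨_, n, rfl⟩⟩, hx⟩ := IsLocalizedModule.surj (Submonoid.powers t') L₀.val.toLinearMap z
    exact ⟨n, x, hx⟩
  -- the jacobian divides a power of `t'`
  set J : L₀ := eval cL (map (algebraMap A' L₀) (jac G₀)) with hJ
  have hJC : (J : C) = aeval c (jac g) := by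
    rw [hJ, hval, map_jac]
    simp only [hgG]
    rfl
  obtain ⟨p₀, d₀, hd₀⟩ := hsurjL (↑hu.unit⁻¹ : C)
  have hd₀' : d₀ * J = τ ^ p₀ := Subtype.val_injective (by
    show (d₀ : C) * (J : C) = ((algebraMap A' L₀ t' ^ p₀ : L₀) : C)
    rw [← hd₀, hJC, smul_mul_assoc, IsUnit.val_inv_mul, Algebra.smul_def, mul_one, SubmonoidClass.coe_pow, map_pow]
    rfl)
  obtain ⟨q, hq⟩ : ∃ q : ℕ, ∀ x : L₀, τ ^ q * x ∈ Algebra.adjoin A' (Set.range cL) := by
    obtain ⟨T, hT⟩ := Module.Finite.fg_top (R := A') (M := L₀)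
    have h1 : ∀ x : L₀, ∃ n : ℕ, τ ^ n * x ∈ Algebra.adjoin A' (Set.range cL) := by
      intro x
      obtain ⟨P, hP⟩ := hsur (x : C)
      obtain ⟨n, P₀, hP₀⟩ := exists_integral_multiple t' (fun _ : Unit => P)
      refine ⟨n, ?_⟩
      rw [Algebra.adjoin_range_eq_range_aeval]
      refine ⟨P₀ (), Subtype.val_injective ?_⟩
      show ((aeval cL (P₀ ()) : L₀) : C) = (algebraMap A' L₀ t' : C) ^ n * (x : C)
      rw [← hP, aeval_def, ← eval_map, hval, hP₀, map_mul, aeval_C, map_pow, ← IsScalarTower.algebraMap_apply]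
      rfl
    choose n hn using h1
    refine ⟨T.sup n, fun x => ?_⟩
    have hx : x ∈ Submodule.span A' (T : Set L₀) := hT ▸ trivial
    induction hx using Submodule.span_induction with
    | zero => rw [mul_zero]; exact zero_mem _
    | add u v _ _ hu hv => rw [mul_add]; exact add_mem hu hv
    | smul u v _ hv => rw [mul_smul_comm]; exact Subalgebra.smul_mem _ hv u
    | mem u hu =>
      rw [← Nat.sub_add_cancel (Finset.le_sup (f := n) hu), pow_add, mul_assoc]
      exact mul_mem (pow_mem (Subalgebra.algebraMap_mem _ _) _) (hn u)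
  -- approximate the equations
  set p := p₀ + q with hp
  choose G' hG' using fun j => exists_approx_poly (τ := t' ^ (2 * p + 1)) (h.surj (2 * p + 1)) (G₀ j)
  let Gl : σ → MvPolynomial σ L₀ := fun j => map (algebraMap A' L₀) (map (algebraMap A A') (G' j))
  have hcong : ∀ j, MvPolynomial.C (τ ^ (2 * p + 1)) ∣ map (algebraMap A' L₀) (G₀ j) - Gl j := fun j => by
    obtain ⟨w, hw⟩ := hG' j
    refine ⟨map (algebraMap A' L₀) w, ?_⟩
    show _ - map (algebraMap A' L₀) _ = _
    rw [← map_sub, hw, map_mul, map_C, map_pow]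
  obtain ⟨w₁, hw₁⟩ := map_dvd (eval cL) (dvd_jac_sub hcong)
  rw [eval_C, map_sub, ← map_jac, ← hJ] at hw₁
  obtain ⟨v, hv⟩ : IsUnit (1 - d₀ * w₁ * τ ^ (p₀ + 2 * q + 1)) := Ideal.isUnit_of_sub_one_mem_jacobson_bot _ (by
    rw [sub_sub_cancel_left, neg_mem_iff]
    exact HenselianRing.jac (I := Ideal.span {τ})
      (Ideal.mul_mem_left _ _ (Ideal.pow_mem_of_mem _ (Ideal.mem_span_singleton_self τ) _ (Nat.succ_pos _))))
  have hd : (↑v⁻¹ * d₀ * τ ^ q) * eval cL (jac Gl) = τ ^ p := by
    have h1 : d₀ * eval cL (jac Gl) = τ ^ p₀ * v := by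
      rw [hv, show eval cL (jac Gl) = J - τ ^ (2 * p + 1) * w₁ by rw [← hw₁]; ring, mul_sub, hd₀', hp]
      ring
    calc (↑v⁻¹ * d₀ * τ ^ q) * eval cL (jac Gl) = ↑v⁻¹ * τ ^ q * (d₀ * eval cL (jac Gl)) := by ring
      _ = (↑v⁻¹ * v) * (τ ^ q * τ ^ p₀) := by rw [h1]; ring
      _ = τ ^ p := by rw [Units.inv_mul, one_mul, hp, ← pow_add, add_comm]
  obtain ⟨bL, hbc, hbz⟩ := exists_root hτreg Gl cL _ p hd fun j => by
    have h1 : eval cL (map (algebraMap A' L₀) (G₀ j)) = 0 := Subtype.val_injective (by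
      rw [hval, hgG]
      exact hg j)
    obtain ⟨w, hw⟩ := map_dvd (eval cL) (hcong j)
    rw [eval_C, map_sub, h1, zero_sub] at hw
    exact ⟨-w, by rw [mul_neg, ← hw, neg_neg]⟩
  -- the new generators generate
  have hgen : ∀ x : L₀, τ ^ q * x ∈ Algebra.adjoin A' (Set.range bL) := by
    let Q : Submodule A' L₀ := Submodule.map (LinearMap.mulLeft A' (τ ^ q)) ⊤
    let N : Submodule A' L₀ := Subalgebra.toSubmodule (Algebra.adjoin A' (Set.range bL))
    have h2 : Q ≤ N := by
      refine Submodule.le_of_le_smul_of_le_jacobson_bot (I := Ideal.span {t'})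
        (Submodule.FG.map _ Module.Finite.fg_top) h.hens'.jac ?_
      rintro _ ⟨x, -, rfl⟩
      have hx := hq x
      rw [Algebra.adjoin_range_eq_range_aeval] at hx
      obtain ⟨P, hP⟩ := hx
      obtain ⟨w, hw⟩ : τ ^ (p + 1) ∣ aeval cL P - aeval bL P := by
        rw [← Ideal.mem_span_singleton, ← Ideal.Quotient.eq, ← Ideal.Quotient.mkₐ_eq_mk A', comp_aeval_apply,
          comp_aeval_apply]
        congr 2
        funext i
        symm
        exact Ideal.Quotient.eq.2 (Ideal.mem_span_singleton.2 (hbc i))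
      show τ ^ q * x ∈ N ⊔ _
      rw [show τ ^ q * x = aeval bL P + t' • (τ ^ q * (τ ^ (p - q) * w)) by
        rw [Algebra.smul_def, ← hτdef, ← mul_assoc, ← mul_assoc, ← pow_succ', ← pow_add,
          show q + 1 + (p - q) = p + 1 by omega, ← hw, add_sub_cancel]
        exact hP.symm]
      refine Submodule.add_mem_sup ?_ (Submodule.smul_mem_smul (Ideal.mem_span_singleton_self t') ⟨_, trivial, rfl⟩)
      show aeval bL P ∈ Algebra.adjoin A' (Set.range bL)
      rw [Algebra.adjoin_range_eq_range_aeval]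
      exact ⟨P, rfl⟩
    exact fun x => h2 ⟨x, trivial, rfl⟩
  set bC : σ → C := fun i => (bL i : C) with hbC
  -- the étale algebra
  let g' : σ → MvPolynomial σ A₀ := fun j => map (algebraMap A A₀) (G' j)
  have hzero : ∀ j, aeval bC (g' j) = 0 := fun j => by
    rw [← hval' bL (G' j), hbz j]; rfl
  have hjac : IsUnit (aeval bC (jac g')) := by
    have hc' : τ ^ (p + 1) ∣ eval cL (jac Gl) - eval bL (jac Gl) := by
      rw [← Ideal.mem_span_singleton, ← Ideal.Quotient.eq, ← Groth.L05.aeval_apply_eq_eval,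
        ← Groth.L05.aeval_apply_eq_eval, ← Ideal.Quotient.mkₐ_eq_mk L₀, comp_aeval_apply, comp_aeval_apply]
      congr 2
      funext i
      symm
      exact Ideal.Quotient.eq.2 (Ideal.mem_span_singleton.2 (hbc i))
    obtain ⟨w, hw⟩ := hc'
    set d' := (↑v⁻¹ * d₀ * τ ^ q) with hd'
    have hu2 : IsUnit (1 - τ * (d' * w)) := Ideal.isUnit_of_sub_one_mem_jacobson_bot _ (by
      rw [sub_sub_cancel_left, neg_mem_iff]
      exact HenselianRing.jac (I := Ideal.span {τ}) (Ideal.mul_mem_right _ _ (Ideal.mem_span_singleton_self τ)))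
    have h1 : d' * eval bL (jac Gl) = τ ^ p * (1 - τ * (d' * w)) := by
      linear_combination hd - d' * hw
    have h2 : IsUnit ((d' * eval bL (jac Gl) : L₀) : C) := by
      rw [h1]
      push_cast
      exact (htC.pow p).mul (hu2.map L₀.val)
    rw [show aeval bC (jac g') = ((eval bL (jac Gl) : L₀) : C) by
      show _ = ((eval bL (jac fun j => map (algebraMap A' L₀) (map (algebraMap A A') (G' j))) : L₀) : C)
      rw [← map_jac, ← map_jac, ← map_jac, hval']]
    push_cast at h2
    exact isUnit_of_mul_isUnit_right h2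
  let S := MvPolynomial σ A₀ ⧸ Ideal.span (Set.range g')
  let ρ : S →ₐ[A₀] C := Ideal.Quotient.liftₐ _ (aeval bC) (by
    show Ideal.span (Set.range g') ≤ RingHom.ker _
    rw [Ideal.span_le]
    rintro _ ⟨j, rfl⟩
    exact hzero j)
  have hρ : IsUnit (ρ (Groth.L05.squarePresentation g').jacobian) := by
    rw [Groth.L05.squarePresentation_jacobian]
    exact hjac
  let ρE : Localization.Away (Groth.L05.squarePresentation g').jacobian →ₐ[A₀] C :=
    IsLocalization.Away.liftAlgHom (Groth.L05.squarePresentation g').jacobian (f := ρ) hρ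
  let π : A₁ ⊗[A₀] Localization.Away (Groth.L05.squarePresentation g').jacobian →ₐ[A₁] C :=
    Algebra.TensorProduct.lift (Algebra.ofId A₁ C) ρE (fun _ _ => Commute.all _ _)
  refine ⟨_, inferInstance, inferInstance, Groth.L05.etale_away_squarePresentation g', π, ?_⟩
  have hb : ∀ i, bC i ∈ π.range := fun i =>
    ⟨1 ⊗ₜ algebraMap S _ (Ideal.Quotient.mk _ (X i)), by
      show algebraMap A₁ C 1 * ρE (algebraMap S _ (Ideal.Quotient.mk _ (X i))) = _
      rw [map_one, one_mul]
      exact (Groth.L05.awayLift_algebraMap _ ρ hρ _).trans (aeval_X _ _)⟩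
  intro z
  obtain ⟨n, x, hx⟩ := hsurjL z
  have hxr : ((τ ^ q * x : L₀) : C) ∈ π.range := by
    have hle : (Algebra.adjoin A' (Set.range bL)).map L₀.val ≤ π.range.restrictScalars A' := by
      rw [AlgHom.map_adjoin, Algebra.adjoin_le_iff]
      rintro _ ⟨_, ⟨i, rfl⟩, rfl⟩
      exact hb i
    exact hle ⟨_, hgen x, rfl⟩
  obtain ⟨v', hv'⟩ := (IsLocalization.Away.algebraMap_isUnit (S := A₁) t').pow (q + n)
  have h3 : z = (↑v'⁻¹ : A₁) • ((τ ^ q * x : L₀) : C) := by
    show z = _ • ((algebraMap A' L₀ t' ^ q * x : L₀) : C)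
    rw [← map_pow, ← Algebra.smul_def, SetLike.val_smul, ← hx, smul_smul, ← pow_add,
      ← IsScalarTower.algebraMap_smul A₁ (t' ^ (q + n)), smul_smul, map_pow, ← hv', Units.inv_mul, one_smul]
  rw [h3]
  exact π.range.smul_mem hxr _

end Groth.L15.FEtHens
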