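import Groth.Agent.L05.Hensel.Newton
import Mathlib.LinearAlgebra.Matrix.Adjugate
import Mathlib.RingTheory.MvPolynomial.Basic

/-!
Newton's lemma for square systems over a henselian pair along a principal ideal.
-/

set_option autoImplicit false
universe u

open MvPolynomial

namespace Groth.L15.FEtHens

variable {R : Type u} [CommRing R] {σ : Type}

/-- Polynomials vanishing to second order at the origin. -/
def sndOrder (R : Type u) [CommRing R] (σ : Type) : Set (MvPolynomial σ R) :=
  {p | eval (0 : σ → R) p = 0 ∧ ∀ i, eval (0 : σ → R) (pderiv i p) = 0}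

theorem add_mem_sndOrder {p q : MvPolynomial σ R} (hp : p ∈ sndOrder R σ) (hq : q ∈ sndOrder R σ) :
    p + q ∈ sndOrder R σ :=
  ⟨by rw [map_add, hp.1, hq.1, add_zero], fun i => by rw [map_add, map_add, hp.2, hq.2, add_zero]⟩

theorem mul_mem_sndOrder (p : MvPolynomial σ R) {q : MvPolynomial σ R} (hq : q ∈ sndOrder R σ) :
    p * q ∈ sndOrder R σ :=
  ⟨by rw [map_mul, hq.1, mul_zero], fun i => by
    rw [pderiv_mul, map_add, map_mul, map_mul, hq.1, hq.2]; ring⟩

theorem mul_X_mem_sndOrder {p : MvPolynomial σ R} (hp : eval (0 : σ → R) p = 0) (i : σ) :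
    p * X i ∈ sndOrder R σ :=
  ⟨by rw [map_mul, hp, zero_mul], fun j => by rw [pderiv_mul, map_add, map_mul, map_mul, hp, eval_X]; simp⟩

/-- Taylor expansion to second order along a scaled displacement. -/
theorem exists_expansion [Fintype σ] [DecidableEq σ] (c : σ → R) (s : R) (P : MvPolynomial σ R) :
    ∃ H ∈ sndOrder R σ, bind₁ (fun i => C (c i) + C s * X i) P =
      C (eval c P) + C s * (∑ i, C (eval c (pderiv i P)) * X i) + C (s ^ 2) * H := by
  induction P using MvPolynomial.induction_on with
  | C a => exact ⟨0, ⟨by simp, fun i => by simp⟩, by simp⟩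
  | add p q hp hq =>
    obtain ⟨H, hH, h⟩ := hp
    obtain ⟨H', hH', h'⟩ := hq
    refine ⟨H + H', add_mem_sndOrder hH hH', ?_⟩
    rw [map_add, h, h', map_add, map_add]
    simp only [map_add, add_mul, Finset.sum_add_distrib]
    ring
  | mul_X p j hp =>
    obtain ⟨H, hH, h⟩ := hp
    refine ⟨C (c j) * H + (∑ i, C (eval c (pderiv i p)) * X i) * X j + (C s * X j) * H,
      add_mem_sndOrder (add_mem_sndOrder (mul_mem_sndOrder _ hH) (mul_X_mem_sndOrder (by simp) j))
        (mul_mem_sndOrder _ hH), ?_⟩
    rw [map_mul, h, bind₁_X_right]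
    have hsum : ∑ i, C (eval c (pderiv i (p * X j))) * X i =
        C (c j) * (∑ i, C (eval c (pderiv i p)) * X i) + C (eval c p) * X j := by
      have h1 : ∀ i, C (eval c (pderiv i (p * X j))) * X i =
          C (c j) * (C (eval c (pderiv i p)) * X i) + (if i = j then C (eval c p) * X i else 0) := by
        intro i
        rw [pderiv_mul, pderiv_X, Pi.single_apply]
        by_cases hij : i = j
        · subst hij; simp only [if_true, map_add, map_mul, eval_X, mul_one]; ring
        · simp only [hij, Ne.symm hij, if_false, map_add, map_mul, map_zero, eval_X, mul_zero, add_zero]; ring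
      rw [Finset.sum_congr rfl fun i _ => h1 i, Finset.sum_add_distrib, ← Finset.mul_sum,
        Finset.sum_ite_eq' Finset.univ j fun i => C (eval c p) * X i, if_pos (Finset.mem_univ j)]
    rw [hsum, map_mul (eval c), eval_X, C_mul, C_pow]
    ring

/-- Newton's lemma for a square system. -/
theorem exists_root [Fintype σ] [DecidableEq σ] {τ : R} [HenselianRing R (Ideal.span {τ})]
    (hτ : IsRegular τ) (g : σ → MvPolynomial σ R) (c : σ → R) (d : R) (p : ℕ)
    (hd : d * eval c (Matrix.of fun i j => pderiv i (g j)).det = τ ^ p)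
    (hg : ∀ j, τ ^ (2 * p + 1) ∣ eval c (g j)) :
    ∃ b : σ → R, (∀ i, τ ^ (p + 1) ∣ b i - c i) ∧ ∀ j, eval b (g j) = 0 := by
  choose gh hgh using hg
  choose H hH hHeq using fun j => exists_expansion c (τ ^ p) (g j)
  let J : Matrix σ σ R := Matrix.of fun j i => eval c (pderiv i (g j))
  let N : Matrix σ σ R := d • J.adjugate
  have hdetJ : d * J.det = τ ^ p := by
    rw [← hd, RingHom.map_det, ← Matrix.det_transpose J]
    rfl
  have hNJ : N * J = τ ^ p • (1 : Matrix σ σ R) := by
    rw [Matrix.smul_mul, Matrix.adjugate_mul, smul_smul, hdetJ]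
  have hJN : J * N = τ ^ p • (1 : Matrix σ σ R) := by
    rw [Matrix.mul_smul, Matrix.mul_adjugate, smul_smul, hdetJ]
  let G : σ → MvPolynomial σ R := fun i => C (τ * ∑ j, N i j * gh j) + X i + ∑ j, C (N i j) * H j
  have h0 : ∀ i, eval (0 : σ → R) (G i) ∈ Ideal.span {τ} := fun i => by
    simp only [G, map_add, map_sum, map_mul, eval_C, eval_X, Pi.zero_apply, (hH _).1, mul_zero,
      Finset.sum_const_zero, add_zero]
    exact Ideal.mul_mem_right _ _ (Ideal.mem_span_singleton_self τ)
  have hdet : eval (0 : σ → R) (Matrix.of fun i j => pderiv i (G j)).det = 1 := by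
    rw [RingHom.map_det, ← Matrix.det_one (n := σ) (R := R)]
    congr 1
    ext i j
    simp only [RingHom.mapMatrix_apply, Matrix.map_apply, Matrix.of_apply, G, map_add, map_sum, pderiv_C,
      pderiv_C_mul, map_zero, zero_add, Algebra.smul_def, algebraMap_eq, map_mul, (hH _).2, mul_zero,
      Finset.sum_const_zero, add_zero, pderiv_X, Pi.single_apply, Matrix.one_apply]
    by_cases hij : i = j
    · subst hij; simp
    · simp [hij, Ne.symm hij]
  obtain ⟨w, hw, hw0⟩ := Groth.L05.exists_zero_of_jacobian (Ideal.span {τ}) G 0 h0 (by rw [hdet, map_one]; exact isUnit_one)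
  refine ⟨fun i => c i + τ ^ p * w i, fun i => ?_, fun j => ?_⟩
  · rw [add_sub_cancel_left, pow_succ]
    exact mul_dvd_mul_left _ (by simpa [Ideal.mem_span_singleton] using hw i)
  let v : σ → R := fun j => eval (fun i => c i + τ ^ p * w i) (g j)
  have hv : ∀ j, v j = τ ^ (2 * p + 1) * gh j + τ ^ p * (J.mulVec w) j + τ ^ (2 * p) * eval w (H j) := by
    intro j
    have h1 : eval w (bind₁ (fun i => C (c i) + C (τ ^ p) * X i) (g j)) =
        eval (fun i => c i + τ ^ p * w i) (g j) := by
      rw [← Groth.L05.aeval_apply_eq_eval, aeval_bind₁, ← Groth.L05.aeval_apply_eq_eval]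
      congr 2
      funext i
      simp
    show eval _ (g j) = _
    rw [← h1, hHeq, ← hgh, ← pow_mul, mul_comm p 2]
    simp only [map_add, map_mul, eval_C, map_sum, eval_X, Matrix.mulVec, dotProduct, J, Matrix.of_apply]
  have hNv : N.mulVec v = 0 := by
    funext i
    have hG := hw0 i
    simp only [G, map_add, map_mul, eval_C, map_sum, eval_X] at hG
    have h2 : (N.mulVec (J.mulVec w)) i = τ ^ p * w i := by
      rw [Matrix.mulVec_mulVec, hNJ, Matrix.smul_mulVec, Matrix.one_mulVec]
      rfl
    have h3 : N.mulVec v i = τ ^ (2 * p + 1) * (∑ j, N i j * gh j) + τ ^ p * (N.mulVec (J.mulVec w)) i +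
        τ ^ (2 * p) * ∑ j, N i j * eval w (H j) := by
      simp only [Matrix.mulVec, dotProduct, Finset.mul_sum, ← Finset.sum_add_distrib]
      refine Finset.sum_congr rfl fun j _ => ?_
      rw [hv j]
      simp only [Matrix.mulVec, dotProduct, Finset.mul_sum, mul_add]
      refine congrArg₂ (· + ·) (congrArg₂ (· + ·) (by ring) ?_) (by ring)
      exact Finset.sum_congr rfl fun k _ => by ring
    show N.mulVec v i = 0
    rw [h3, h2]
    linear_combination τ ^ (2 * p) * hG
  have h4 : τ ^ p • v = 0 := by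
    rw [← Matrix.one_mulVec v, ← Matrix.smul_mulVec, ← hJN, ← Matrix.mulVec_mulVec, hNv, Matrix.mulVec_zero]
  exact (hτ.pow p).left (by simpa [v] using congrFun h4 j)

end Groth.L15.FEtHens
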