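import Groth.Agent.L15.FEtHens.Approx
import Groth.Agent.L15.FEtHens.Newton
import Groth.Agent.L15.FEtHens.Square
import Groth.Agent.L05.Hensel.Perm
import Mathlib.RingTheory.Smooth.Basic
import Mathlib.Tactic.NoncommRing

/-!
Elkik approximation: a smooth algebra over the small localization with a point in the big one has a
point in the small one.
-/

set_option autoImplicit false
set_option linter.style.haveILetI false
universe u

open MvPolynomial

namespace Groth.L15.FEtHens

section Algebra

variable {R : Type u} [CommRing R] {σ : Type} [Fintype σ]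

theorem taylor_mem (δ : σ → MvPolynomial σ R) (f : MvPolynomial σ R) :
    aeval (fun i => X i + δ i) f - f - ∑ k, pderiv k f * δ k ∈
      Ideal.span (Set.range δ) * Ideal.span (Set.range δ) := by
  classical
  induction f using MvPolynomial.induction_on with
  | C a => simp
  | add p q hp hq =>
    convert Ideal.add_mem _ hp hq using 1
    simp only [map_add, add_mul, Finset.sum_add_distrib]
    ring
  | mul_X p j hp =>
    have hd : ∀ k, pderiv k (p * X j) * δ k = pderiv k p * δ k * X j + p * (if j = k then δ k else 0) := by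
      intro k
      rw [pderiv_mul, pderiv_X]
      by_cases hjk : j = k
      · subst hjk; simp; ring
      · simp [hjk]; ring
    have hs : ∑ k, pderiv k (p * X j) * δ k = (∑ k, pderiv k p * δ k) * X j + p * δ j := by
      simp_rw [hd, Finset.sum_add_distrib, ← Finset.sum_mul, ← Finset.mul_sum, Finset.sum_ite_eq,
        Finset.mem_univ, if_true]
    have h2 : (∑ k, pderiv k p * δ k) * δ j ∈ Ideal.span (Set.range δ) * Ideal.span (Set.range δ) :=
      Ideal.mul_mem_mul (Ideal.sum_mem _ fun k _ => Ideal.mul_mem_left _ _ (Ideal.subset_span ⟨k, rfl⟩))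
        (Ideal.subset_span ⟨j, rfl⟩)
    convert Ideal.add_mem _ (Ideal.mul_mem_right (X j + δ j) _ hp) h2 using 1
    rw [map_mul, aeval_X, hs]
    ring

theorem pderiv_mem_of_mem_mul {I : Ideal (MvPolynomial σ R)} (k : σ) {x : MvPolynomial σ R}
    (hx : x ∈ I * I) : pderiv k x ∈ I := by
  induction hx using Submodule.mul_induction_on' with
  | mem_mul_mem a ha b hb =>
    rw [pderiv_mul]
    exact I.add_mem (Ideal.mul_mem_left _ _ hb) (Ideal.mul_mem_right _ _ ha)
  | add a _ b _ ha hb => rw [map_add]; exact I.add_mem ha hb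

theorem exists_sum_of_mem_mul {ι : Type} [Fintype ι] {I : Ideal (MvPolynomial σ R)}
    {f : ι → MvPolynomial σ R} (hI : I = Ideal.span (Set.range f)) {x : MvPolynomial σ R}
    (hx : x ∈ I * I) : ∃ u : ι → MvPolynomial σ R, (∀ r, u r ∈ I) ∧ x = ∑ r, u r * f r := by
  classical
  rw [show I * I = I • Submodule.span (MvPolynomial σ R) (Set.range f) by
    rw [smul_eq_mul]; exact congrArg (I * ·) hI] at hx
  obtain ⟨a, ha, hax⟩ := (Submodule.mem_ideal_smul_span_iff_exists_sum I f x).1 hx
  refine ⟨fun r => a r, fun r => ha r, ?_⟩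
  rw [← hax, Finsupp.sum_fintype _ _ (fun i => by rw [zero_smul])]
  rfl

/-- A smooth quotient of a polynomial ring has a second order retraction, which defines a projection
that controls the relations. -/
theorem exists_projection {ι : Type} [Fintype ι] [DecidableEq σ] {S : Type u} [CommRing S] [Algebra R S]
    [Algebra.FormallySmooth R S] (φ : MvPolynomial σ R →ₐ[R] S) (hφ : Function.Surjective φ)
    (f : ι → MvPolynomial σ R) (hf : RingHom.ker φ.toRingHom = Ideal.span (Set.range f)) :
    ∃ (δ : σ → MvPolynomial σ R) (U : ι → ι → MvPolynomial σ R) (W : ι → ι → σ → MvPolynomial σ R),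
      (∀ i, φ (δ i) = 0) ∧ (∀ m r, φ (U m r) = 0) ∧
      (∀ i k, φ (∑ l, pderiv l (δ i) * pderiv k (δ l) + pderiv k (δ i)) = 0) ∧
      ∀ (S' : Type u) [CommRing S'] [Algebra R S'] (b : σ → S') (a : σ → S'),
        (∀ i, aeval b (δ i) + ∑ k, ((if i = k then 1 else 0) + aeval b (pderiv k (δ i))) * (b k - a k) = 0) →
        ∀ m, aeval b (f m) = ∑ r, (aeval b (U m r) + ∑ k, (b k - a k) * aeval b (W m r k)) * aeval b (f r) := by
  classical
  set I := RingHom.ker φ.toRingHom with hIdef
  let Q := MvPolynomial σ R ⧸ I ^ 2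
  let g : Q →ₐ[R] S := Ideal.Quotient.liftₐ _ φ (fun a ha => Ideal.pow_le_self two_ne_zero ha)
  have hg : Function.Surjective g := fun z => by
    obtain ⟨y, rfl⟩ := hφ z
    exact ⟨Ideal.Quotient.mk _ y, rfl⟩
  have hnil : IsNilpotent (RingHom.ker (g : Q →+* S)) := by
    refine ⟨2, ?_⟩
    have : RingHom.ker (g : Q →+* S) = I.map (Ideal.Quotient.mk (I ^ 2)) := by
      ext z
      obtain ⟨z, rfl⟩ := Ideal.Quotient.mk_surjective z
      rw [Ideal.mem_quotient_iff_mem (Ideal.pow_le_self two_ne_zero)]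
      rfl
    rw [this, ← Ideal.map_pow, Ideal.zero_eq_bot, Ideal.map_quotient_self]
  let s : S →ₐ[R] Q := Algebra.FormallySmooth.liftOfSurjective (AlgHom.id R S) g hg hnil
  have hs : ∀ z, g (s z) = z :=
    Algebra.FormallySmooth.liftOfSurjective_apply (AlgHom.id R S) g hg hnil
  choose y hy using fun i => Ideal.Quotient.mk_surjective (I := I ^ 2) (s (φ (X i)))
  let δ : σ → MvPolynomial σ R := fun i => y i - X i
  have hδ : ∀ i, δ i ∈ I := fun i => by
    show φ (y i - X i) = 0
    rw [map_sub, sub_eq_zero]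
    exact (congrArg g (hy i)).trans (hs _)
  have hδI : Ideal.span (Set.range δ) ≤ I := Ideal.span_le.2 (Set.range_subset_iff.2 hδ)
  have hA : ∀ p, Ideal.Quotient.mkₐ R (I ^ 2) (aeval (fun i => X i + δ i) p) = s (φ p) := by
    intro p
    rw [← AlgHom.comp_apply, ← AlgHom.comp_apply]
    congr 1
    refine MvPolynomial.algHom_ext fun i => ?_
    simp [δ, hy]
  have h1 : ∀ p ∈ I, p + ∑ k, pderiv k p * δ k ∈ I * I := by
    intro p hp
    have h2 : aeval (fun i => X i + δ i) p ∈ I * I := by
      rw [← pow_two, ← Ideal.Quotient.eq_zero_iff_mem, ← Ideal.Quotient.mkₐ_eq_mk R, hA,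
        show φ p = 0 from hp, map_zero]
    have h3 := Ideal.mul_mono hδI hδI (taylor_mem δ p)
    convert (I * I).sub_mem h2 h3 using 1
    ring
  have h4 : ∀ i k, ∑ l, pderiv l (δ i) * pderiv k (δ l) + pderiv k (δ i) ∈ I := by
    intro i k
    have h5 := pderiv_mem_of_mem_mul k (h1 _ (hδ i))
    rw [map_add, map_sum] at h5
    simp_rw [pderiv_mul, Finset.sum_add_distrib] at h5
    have h6 : ∑ l, pderiv k (pderiv l (δ i)) * δ l ∈ I :=
      I.sum_mem fun l _ => I.mul_mem_left _ (hδ l)
    convert I.sub_mem h5 h6 using 1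
    ring
  choose u hu hueq using fun i => exists_sum_of_mem_mul hf (h1 _ (hδ i))
  choose u' hu' hu'eq using fun m => exists_sum_of_mem_mul hf
    (h1 (f m) (hf ▸ Ideal.subset_span ⟨m, rfl⟩))
  choose w hw using fun i k => Ideal.mem_span_range_iff_exists_fun.1 (hf ▸ h4 i k)
  refine ⟨δ, fun m r => u' m r - ∑ i, pderiv i (f m) * u i r,
    fun m r k => - ∑ i, pderiv i (f m) * w i k r, hδ, fun m r => ?_, h4, ?_⟩
  · show φ _ = 0
    rw [map_sub, show φ (u' m r) = 0 from hu' m r, map_sum,
      Finset.sum_eq_zero fun i _ => by rw [map_mul, show φ (u i r) = 0 from hu i r, mul_zero], sub_zero]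
  intro S' _ _ b a hG m
  have e1 : aeval b (f m) + ∑ i, aeval b (pderiv i (f m)) * aeval b (δ i) =
      ∑ r, aeval b (u' m r) * aeval b (f r) := by
    simpa [map_sum] using congrArg (aeval b) (hu'eq m)
  have e2 : ∀ i, aeval b (δ i) + ∑ l, aeval b (pderiv l (δ i)) * aeval b (δ l) =
      ∑ r, aeval b (u i r) * aeval b (f r) := fun i => by
    simpa [map_sum] using congrArg (aeval b) (hueq i)
  have e3 : ∀ i k, ∑ l, aeval b (pderiv l (δ i)) * aeval b (pderiv k (δ l)) + aeval b (pderiv k (δ i)) =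
      ∑ r, aeval b (w i k r) * aeval b (f r) := fun i k => by
    simpa [map_sum] using (congrArg (aeval b) (hw i k)).symm
  -- abbreviations
  set D : σ → S' := fun i => aeval b (δ i) with hD
  set J : σ → σ → S' := fun i k => aeval b (pderiv k (δ i)) with hJ
  have hGl : ∀ l, D l = -(b l - a l) - ∑ k, J l k * (b k - a k) := fun l => by
    have := hG l
    simp only [add_mul, ite_mul, one_mul, zero_mul, Finset.sum_add_distrib, Finset.sum_ite_eq,
      Finset.mem_univ, if_true] at this
    linear_combination this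
  have e4 : ∀ i, D i = (∑ r, aeval b (u i r) * aeval b (f r)) +
      ∑ k, (b k - a k) * ∑ r, aeval b (w i k r) * aeval b (f r) := by
    intro i
    have h5 : ∑ k, (b k - a k) * ∑ r, aeval b (w i k r) * aeval b (f r) = ∑ l, J i l * -D l := by
      calc ∑ k, (b k - a k) * ∑ r, aeval b (w i k r) * aeval b (f r)
          = (∑ k, ∑ l, J i l * (J l k * (b k - a k))) + ∑ l, J i l * (b l - a l) := by
            rw [← Finset.sum_add_distrib]
            refine Finset.sum_congr rfl fun k _ => ?_
            rw [← e3, mul_add, Finset.mul_sum]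
            congr 1
            · exact Finset.sum_congr rfl fun l _ => by simp only [hJ]; ring
            · simp only [hJ]; ring
        _ = ∑ l, J i l * -D l := by
            rw [Finset.sum_comm, ← Finset.sum_add_distrib]
            refine Finset.sum_congr rfl fun l _ => ?_
            rw [← Finset.mul_sum, ← mul_add, hGl l]
            congr 1
            ring
    rw [h5, ← e2 i]
    simp only [mul_neg, Finset.sum_neg_distrib, hD, hJ]
    ring
  have e5 : aeval b (f m) = ∑ r, aeval b (u' m r) * aeval b (f r) - ∑ i, aeval b (pderiv i (f m)) * D i := by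
    rw [← e1]; ring
  set g : σ → S' := fun i => aeval b (pderiv i (f m))
  set F : ι → S' := fun r => aeval b (f r)
  have A1 : ∑ i, g i * ∑ r, aeval b (u i r) * F r = ∑ r, (∑ i, g i * aeval b (u i r)) * F r := by
    simp_rw [Finset.mul_sum, Finset.sum_mul]
    rw [Finset.sum_comm]
    exact Finset.sum_congr rfl fun _ _ => Finset.sum_congr rfl fun _ _ => by ring
  have A2 : ∑ i, g i * ∑ k, (b k - a k) * ∑ r, aeval b (w i k r) * F r =
      ∑ r, (∑ k, (b k - a k) * ∑ i, g i * aeval b (w i k r)) * F r := by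
    simp_rw [Finset.mul_sum, Finset.sum_mul]
    rw [Finset.sum_comm]
    conv_lhs => arg 2; ext k; rw [Finset.sum_comm]
    rw [Finset.sum_comm]
    exact Finset.sum_congr rfl fun _ _ => Finset.sum_congr rfl fun _ _ => Finset.sum_congr rfl fun _ _ => by ring
  show aeval b (f m) = _
  rw [e5]
  simp_rw [e4, mul_add, Finset.sum_add_distrib]
  rw [A1, A2, ← sub_sub, ← Finset.sum_sub_distrib, ← Finset.sum_sub_distrib]
  refine Finset.sum_congr rfl fun r _ => ?_
  simp only [g, F, map_sub, map_sum, map_neg, map_mul, mul_neg, Finset.sum_neg_distrib]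
  ring

end Algebra

variable {A A' A₀ A₁ : Type u} [CommRing A] [CommRing A'] [Algebra A A'] [CommRing A₀] [CommRing A₁]
  [Algebra A A₀] [Algebra A A₁] [Algebra A' A₁] [Algebra A₀ A₁] [IsScalarTower A A' A₁]
  [IsScalarTower A A₀ A₁] {t : A} [IsLocalization.Away t A₀]
  [IsLocalization.Away (algebraMap A A' t) A₁] (h : IsApprox A A' t)

omit h in
/-- Units of the localization have denominators. -/
theorem exists_mul_eq_pow {R R₁ : Type u} [CommRing R] [CommRing R₁] [Algebra R R₁] (r : R)
    [IsLocalization.Away r R₁] {x : R} (hx : IsUnit (algebraMap R R₁ x)) :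
    ∃ (p : ℕ) (w : R), x * w = r ^ p := by
  obtain ⟨n, w, hw⟩ := IsLocalization.Away.surj r (↑hx.unit⁻¹ : R₁)
  have h1 : algebraMap R R₁ (x * w) = algebraMap R R₁ (r ^ n) := by
    rw [map_mul, ← hw, ← mul_assoc, IsUnit.mul_val_inv, one_mul, map_pow]
  obtain ⟨k, hk⟩ := IsLocalization.Away.exists_of_eq r h1
  exact ⟨k + n, r ^ k * w, by rw [pow_add, ← hk]; ring⟩

include h

/-- Being a divisor of a power of `t` is detected on the big side. -/
theorem IsApprox.exists_mul_eq {a : A} {w : A'} {p : ℕ} (z : A')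
    (hw : algebraMap A A' a * w = algebraMap A A' t ^ p * (1 + algebraMap A A' t * z)) :
    ∃ d : A, a * d = t ^ p := by
  obtain ⟨d, c, hd⟩ := h.surj (p + 1) w
  obtain ⟨z', hz'⟩ := h.surj 1 z
  obtain ⟨c', hc'⟩ := hz'
  rw [pow_one] at hc'
  obtain ⟨e, he⟩ := h.inj (p + 1) (a * d - t ^ p) ⟨z - algebraMap A A' a * c, by
    rw [map_sub, map_mul, map_pow]
    rw [sub_eq_iff_eq_add] at hd
    rw [hd] at hw
    linear_combination hw⟩
  have hu : IsUnit (1 + t * e) := Ideal.isUnit_of_sub_one_mem_jacobson_bot _ (by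
    rw [add_sub_cancel_left]
    exact h.hens.jac (Ideal.mul_mem_right _ _ (Ideal.mem_span_singleton_self t)))
  refine ⟨d * ↑hu.unit⁻¹, ?_⟩
  rw [← mul_assoc, show a * d = t ^ p * (1 + t * e) by linear_combination he, mul_assoc, IsUnit.mul_val_inv,
    mul_one]

theorem IsApprox.isUnit_of_map {z : A₀} (v : A')
    (hz : algebraMap A₀ A₁ z = algebraMap A' A₁ (1 + algebraMap A A' t * v)) : IsUnit z := by
  obtain ⟨n, a, ha⟩ := IsLocalization.Away.surj t z
  have h1 : algebraMap A' A₁ (algebraMap A A' a) =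
      algebraMap A' A₁ (algebraMap A A' t ^ n * (1 + algebraMap A A' t * v)) := by
    rw [map_mul, ← hz, ← IsScalarTower.algebraMap_apply, IsScalarTower.algebraMap_apply A A₀ A₁, ← ha,
      map_mul, map_pow, map_pow, ← IsScalarTower.algebraMap_apply, ← IsScalarTower.algebraMap_apply, mul_comm]
  obtain ⟨k, hk⟩ := IsLocalization.Away.exists_of_eq (algebraMap A A' t) h1
  obtain ⟨d, hd⟩ := h.exists_mul_eq (a := t ^ k * a) (w := 1) (p := k + n) v (by
    rw [map_mul, map_pow, mul_one, hk, pow_add, mul_assoc])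
  have hu : IsUnit (algebraMap A A₀ a) := by
    have h2 : IsUnit (algebraMap A A₀ (t ^ k * a * d)) := by
      rw [hd, map_pow]
      exact (IsLocalization.Away.algebraMap_isUnit t).pow _
    rw [map_mul, map_mul] at h2
    exact isUnit_of_mul_isUnit_right (isUnit_of_mul_isUnit_left h2)
  rw [← ha] at hu
  exact isUnit_of_mul_isUnit_left hu

set_option maxHeartbeats 1000000 in
/-- A smooth algebra with a point over the big localization has one over the small one. -/
theorem IsApprox.exists_algHom_of_smooth (S : Type u) [CommRing S] [Algebra A₀ S] [Algebra.Smooth A₀ S]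
    (x : S →ₐ[A₀] A₁) : Nonempty (S →ₐ[A₀] A₀) := by
  classical
  set t' := algebraMap A A' t with ht'
  set j := algebraMap A' A₁ with hj
  have hjA : ∀ z : A, j (algebraMap A A' z) = algebraMap A₀ A₁ (algebraMap A A₀ z) := fun z => by
    rw [hj, ← IsScalarTower.algebraMap_apply, ← IsScalarTower.algebraMap_apply]
  -- generators on which the point is integral
  obtain ⟨n, φ₀, hφ₀⟩ := Algebra.FiniteType.iff_quotient_mvPolynomial''.1
    (inferInstance : Algebra.FiniteType A₀ S)
  choose k c₀ hc₀ using fun i => IsLocalization.Away.surj t' (x (φ₀ (X i)))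
  let K := Finset.univ.sup k
  let c : Fin n → A' := fun i => t' ^ (K - k i) * c₀ i
  let τ₀ := algebraMap A A₀ t ^ K
  obtain ⟨e₀, he₀⟩ : IsUnit τ₀ := (IsLocalization.Away.algebraMap_isUnit t).pow K
  let φ : MvPolynomial (Fin n) A₀ →ₐ[A₀] S := aeval fun i => τ₀ • φ₀ (X i)
  have hφ : Function.Surjective φ := fun z => by
    obtain ⟨p, rfl⟩ := hφ₀ z
    refine ⟨aeval (fun i => MvPolynomial.C (↑e₀⁻¹ : A₀) * X i) p, ?_⟩
    rw [← AlgHom.comp_apply]
    congr 1
    refine MvPolynomial.algHom_ext fun i => ?_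
    simp only [φ, AlgHom.comp_apply, aeval_X, map_mul, aeval_C, ← Algebra.smul_def, smul_smul, ← he₀,
      Units.inv_mul, one_smul]
  have hxc : ∀ p, x (φ p) = aeval (fun i => j (c i)) p := by
    intro p
    rw [← AlgHom.comp_apply]
    congr 1
    refine MvPolynomial.algHom_ext fun i => ?_
    simp only [φ, AlgHom.comp_apply, aeval_X, Algebra.smul_def, τ₀, c, map_pow, map_mul, AlgHom.commutes]
    rw [← hjA, ← hc₀ i, ← ht']
    rw [mul_comm (x _), ← mul_assoc, ← pow_add, Nat.sub_add_cancel (Finset.le_sup (Finset.mem_univ i))]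
  obtain ⟨T, hT⟩ := (Algebra.FinitePresentation.ker_fg_of_mvPolynomial φ hφ)
  obtain ⟨nT, f, hf⟩ : ∃ (m : ℕ) (f : Fin m → MvPolynomial (Fin n) A₀),
      RingHom.ker φ.toRingHom = Ideal.span (Set.range f) := by
    refine ⟨T.card, fun i => (T.equivFin.symm i : MvPolynomial (Fin n) A₀), hT.symm.trans ?_⟩
    congr 1
    ext z
    exact ⟨fun hz => ⟨T.equivFin ⟨z, hz⟩, by simp⟩, fun ⟨i, hi⟩ => hi ▸ (T.equivFin.symm i).2⟩
  obtain ⟨δ, U, W, hδ, hU, hP, key⟩ := exists_projection φ hφ f hf
  -- integral versions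
  obtain ⟨e₁, δ₁, hδ₁⟩ := exists_integral_multiple t δ
  obtain ⟨eU, U₁, hU₁⟩ := exists_integral_multiple t (fun q : Fin nT × Fin nT => U q.1 q.2)
  obtain ⟨eW, W₁, hW₁⟩ := exists_integral_multiple t (fun q : (Fin nT × Fin nT) × Fin n => W q.1.1 q.1.2 q.2)
  have hev : ∀ (v : Fin n → A') (p : MvPolynomial (Fin n) A) (e : ℕ) (p₀ : MvPolynomial (Fin n) A₀),
      map (algebraMap A A₀) p = MvPolynomial.C (algebraMap A A₀ t ^ e) * p₀ →
      j t' ^ e * aeval (fun i => j (v i)) p₀ = j (aeval v p) := by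
    intro v p e p₀ hp
    have h1 := congrArg (aeval (fun i => j (v i)) : MvPolynomial (Fin n) A₀ →ₐ[A₀] A₁) hp
    rw [aeval_map_algebraMap, map_mul, aeval_C, map_pow, ← hjA] at h1
    rw [← h1]
    exact (comp_aeval_apply (f := v) (IsScalarTower.toAlgHom A A' A₁) p).symm
  choose qδ hqδ using fun i => IsLocalization.Away.exists_of_eq (S := A₁) t'
    (a := aeval c (δ₁ i)) (b := 0) (by
      rw [map_zero, ← hj, ← hev c (δ₁ i) e₁ (δ i) (hδ₁ i), ← hxc, hδ, map_zero, mul_zero])
  let Q := Finset.univ.sup qδ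
  let δ₂ : Fin n → MvPolynomial (Fin n) A := fun i => MvPolynomial.C (t ^ Q) * δ₁ i
  set E := Q + e₁ with hE
  have hδ₂ : ∀ i, map (algebraMap A A₀) (δ₂ i) = MvPolynomial.C (algebraMap A A₀ t ^ E) * δ i := fun i => by
    rw [map_mul, map_C, hδ₁, ← mul_assoc, ← C_mul, map_pow, ← pow_add]
  have hδ₂c : ∀ i, aeval c (δ₂ i) = 0 := fun i => by
    have hQ : qδ i ≤ Q := Finset.le_sup (Finset.mem_univ i)
    rw [map_mul, aeval_C, map_pow, ← ht', ← Nat.sub_add_cancel hQ, pow_add, mul_assoc, hqδ i, mul_zero,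
      mul_zero]
  -- the determinant
  let Mx : Matrix (Fin n) (Fin n) (MvPolynomial (Fin n) A) := Matrix.of fun l i =>
    (if i = l then MvPolynomial.C (t ^ E) else 0) + 2 * pderiv l (δ₂ i)
  obtain ⟨p₀, wD, hwD⟩ := exists_mul_eq_pow (R₁ := A₁) t' (x := aeval c Mx.det) (by
    let P : Matrix (Fin n) (Fin n) A₁ := Matrix.of fun l i => aeval (fun i => j (c i)) (pderiv l (δ i))
    have hPP : P * P + P = 0 := by
      ext l i
      rw [Matrix.add_apply, Matrix.mul_apply, Matrix.zero_apply]
      have h0 := congrArg x (hP i l)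
      rw [hxc, map_zero, map_add, map_sum] at h0
      rw [← h0]
      congr 1
      exact Finset.sum_congr rfl fun r _ => by rw [map_mul, mul_comm]; rfl
    have hsq : (1 + (2 : A₁) • P) * (1 + (2 : A₁) • P) = 1 := by
      rw [two_smul]
      calc (1 + (P + P)) * (1 + (P + P))
          = 1 + ((P * P + P) + (P * P + P) + (P * P + P) + (P * P + P)) := by noncomm_ring
        _ = 1 := by rw [hPP]; simp
    have hu : IsUnit (1 + (2 : A₁) • P).det :=
      (Matrix.isUnit_iff_isUnit_det _).1 (IsUnit.of_mul_eq_one _ hsq)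
    have hMx : j.mapMatrix ((aeval c).toRingHom.mapMatrix Mx) = j t' ^ E • (1 + (2 : A₁) • P) := by
      ext l i
      simp only [RingHom.mapMatrix_apply, Matrix.map_apply, Matrix.smul_apply, Matrix.add_apply,
        Matrix.one_apply, Mx, P, Matrix.of_apply, AlgHom.toRingHom_eq_coe, RingHom.coe_coe]
      rw [map_add, map_add, map_mul, map_mul]
      rw [← hev c (pderiv l (δ₂ i)) E (pderiv l (δ i)) (by
        rw [← pderiv_map, hδ₂, pderiv_C_mul])]
      by_cases hil : i = l
      · subst hil; simp [smul_eq_mul, ← ht', map_ofNat]; ring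
      · simp [hil, Ne.symm hil, smul_eq_mul, map_ofNat]; ring
    have h1 : j (aeval c Mx.det) = (j t' ^ E • (1 + (2 : A₁) • P)).det := by
      rw [← hMx, ← RingHom.map_det, ← RingHom.map_det]
      rfl
    rw [← hj, h1, Matrix.det_smul]
    exact (((IsLocalization.Away.algebraMap_isUnit t').pow E).pow _).mul hu)
  set p := p₀ + (eU + eW + 1) with hp
  -- approximation
  choose a ha using fun i => h.surj (2 * p + 1) (c i)
  have hdvd : ∀ (v v' : Fin n → A') (N : ℕ) (P : MvPolynomial (Fin n) A), (∀ i, t' ^ N ∣ v i - v' i) →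
      t' ^ N ∣ aeval v P - aeval v' P := by
    intro v v' N P hv
    rw [← Ideal.mem_span_singleton, ← Ideal.Quotient.eq, ← Ideal.Quotient.mkₐ_eq_mk A, comp_aeval_apply,
      comp_aeval_apply]
    congr 2
    funext i
    exact Ideal.Quotient.eq.2 (Ideal.mem_span_singleton.2 (hv i))
  have hevA : ∀ (v : Fin n → A) (P : MvPolynomial (Fin n) A),
      algebraMap A A' (eval v P) = aeval (fun i => algebraMap A A' (v i)) P := by
    intro v P
    rw [← aeval_eq_eval]
    exact comp_aeval_apply (f := v) (Algebra.ofId A A') P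
  have ha' : ∀ i, t' ^ (2 * p + 1) ∣ algebraMap A A' (a i) - c i := fun i => (dvd_sub_comm).1 (ha i)
  let G : Fin n → MvPolynomial (Fin n) A := fun i =>
    δ₂ i + ∑ k, ((if i = k then MvPolynomial.C (t ^ E) else 0) + pderiv k (δ₂ i)) * (X k - MvPolynomial.C (a k))
  have hGa : ∀ i, t ^ (2 * p + 1) ∣ eval a (G i) := by
    intro i
    refine h.inj _ _ ?_
    have h1 : eval a (G i) = eval a (δ₂ i) := by simp [G]
    rw [h1, hevA]
    simpa [hδ₂c i] using hdvd _ c _ (δ₂ i) ha'
  have hjac : eval a (Matrix.of fun l i => pderiv l (G i)).det = eval a Mx.det := by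
    rw [RingHom.map_det, RingHom.map_det]
    congr 1
    ext l i
    simp only [RingHom.mapMatrix_apply, Matrix.map_apply, Matrix.of_apply, G, Mx]
    rw [map_add, map_sum, map_add, map_sum]
    simp only [pderiv_mul, map_add, map_sub, map_mul, eval_X, eval_C, sub_self, mul_zero, zero_add,
      pderiv_C, sub_zero, pderiv_X]
    rw [Finset.sum_eq_single l (fun b _ hb => by simp [hb, Ne.symm hb]) (by simp)]
    simp only [Pi.single_eq_same, map_one, mul_one, map_ofNat]
    split_ifs <;> simp <;> ring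
  obtain ⟨z, hz⟩ := hdvd (fun i => algebraMap A A' (a i)) c (2 * p + 1) Mx.det ha'
  obtain ⟨d₀, hd₀⟩ := h.exists_mul_eq (a := eval a Mx.det) (w := wD) (p := p₀)
    (t' ^ (2 * p - p₀) * z * wD) (by
      rw [hevA, sub_eq_iff_eq_add.1 hz, add_mul, hwD, ← ht']
      rw [show 2 * p + 1 = p₀ + 1 + (2 * p - p₀) by omega, pow_add, pow_succ]
      ring)
  -- the image of `A` in the localization
  let Ab := A ⧸ RingHom.ker (algebraMap A A₀)
  let q : A →+* Ab := Ideal.Quotient.mk _
  let iA : Ab →+* A₀ := RingHom.kerLift (algebraMap A A₀)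
  have hiA : Function.Injective iA := RingHom.kerLift_injective _
  have hiq : ∀ z, iA (q z) = algebraMap A A₀ z := fun z => RingHom.kerLift_mk _ _
  have hqev : ∀ (v : Fin n → A) (P : MvPolynomial (Fin n) A),
      eval (fun i => q (v i)) (map q P) = q (eval v P) := fun v P => by
    induction P using MvPolynomial.induction_on <;> simp_all
  haveI : HenselianRing Ab (Ideal.span {q t}) := by
    haveI := h.hens
    have := Groth.L05.henselianRing_map_of_isIntegral (Ideal.span {t}) Ab
    rwa [Ideal.map_span, Set.image_singleton] at this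
  have hreg : IsRegular (q t) := by
    have hl : IsLeftRegular (q t) := fun y z hyz => hiA ((IsLocalization.Away.algebraMap_isUnit (S := A₀) t).mul_left_cancel (by
      have := congrArg iA hyz
      rwa [map_mul, map_mul, hiq] at this))
    exact ⟨hl, fun y z hyz => hl (by simpa [mul_comm (q t)] using hyz)⟩
  obtain ⟨bb, hbc, hbz⟩ := exists_root hreg (fun i => map q (G i)) (fun i => q (a i))
    (q (d₀ * t ^ (p - p₀))) p (by
      have h1 : (Matrix.of fun i j => pderiv i (map q (G j))).det = map q (Matrix.of fun l i => pderiv l (G i)).det := by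
        rw [RingHom.map_det]; congr 1; ext i j : 1; simp [pderiv_map]
      rw [h1, hqev, hjac, ← map_mul, ← map_pow]
      congr 1
      calc d₀ * t ^ (p - p₀) * eval a Mx.det = (eval a Mx.det * d₀) * t ^ (p - p₀) := by ring
        _ = t ^ p := by rw [hd₀, ← pow_add]; congr 1; omega)
    (fun i => by
      rw [hqev, ← map_pow]
      exact map_dvd q (hGa i))
  choose bi hbi using hbc
  choose xi hxi using fun i => Ideal.Quotient.mk_surjective (bi i)
  let b : Fin n → A := fun i => a i + t ^ (p + 1) * xi i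
  have hb : ∀ i, q (b i) = bb i := fun i => by
    rw [map_add, map_mul, map_pow, hxi, ← hbi]; ring
  let b₀ : Fin n → A₀ := fun i => algebraMap A A₀ (b i)
  let a₀ : Fin n → A₀ := fun i => algebraMap A A₀ (a i)
  have hG₀ : ∀ i, aeval b₀ (δ i) +
      ∑ k, ((if i = k then 1 else 0) + aeval b₀ (pderiv k (δ i))) * (b₀ k - a₀ k) = 0 := by
    intro i
    refine ((IsLocalization.Away.algebraMap_isUnit (S := A₀) t).pow E).mul_right_eq_zero.1 ?_
    have h1 : algebraMap A A₀ (eval b (G i)) = 0 := by
      have h2 := congrArg iA (hbz i)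
      rw [show bb = fun i => q (b i) from funext fun i => (hb i).symm, hqev, hiq, map_zero] at h2
      exact h2
    have hev₀ : ∀ (P : MvPolynomial (Fin n) A) (P₀ : MvPolynomial (Fin n) A₀),
        map (algebraMap A A₀) P = MvPolynomial.C (algebraMap A A₀ t ^ E) * P₀ →
        algebraMap A A₀ (eval b P) = algebraMap A A₀ t ^ E * aeval b₀ P₀ := by
      intro P P₀ hP
      have h2 := congrArg (aeval b₀ : MvPolynomial (Fin n) A₀ →ₐ[A₀] A₀) hP
      rw [aeval_map_algebraMap, map_mul, aeval_C] at h2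
      rw [← aeval_eq_eval]
      exact (comp_aeval_apply (f := b) (Algebra.ofId A A₀) P).trans h2
    have h3 : algebraMap A A₀ (eval b (G i)) = algebraMap A A₀ (eval b (δ₂ i)) + ∑ k,
        ((if i = k then algebraMap A A₀ t ^ E else 0) + algebraMap A A₀ (eval b (pderiv k (δ₂ i)))) *
          (b₀ k - a₀ k) := by
      simp only [G, map_add, map_sum, map_mul, map_sub, eval_X, eval_C, b₀, a₀]
      congr 1
      refine Finset.sum_congr rfl fun k _ => ?_
      split_ifs <;> simp
    refine Eq.trans ?_ h1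
    rw [h3, hev₀ _ _ (hδ₂ i), mul_add, Finset.mul_sum]
    congr 1
    refine Finset.sum_congr rfl fun k _ => ?_
    rw [hev₀ (pderiv k (δ₂ i)) (pderiv k (δ i)) (by rw [← pderiv_map, hδ₂, pderiv_C_mul])]
    split_ifs <;> ring
  have hkey := key A₀ b₀ a₀ hG₀
  -- the error matrix is small
  let M : Matrix (Fin nT) (Fin nT) A₀ := Matrix.of fun m r =>
    aeval b₀ (U m r) + ∑ k, (b₀ k - a₀ k) * aeval b₀ (W m r k)
  let b' : Fin n → A' := fun i => algebraMap A A' (b i)
  have hb₁ : ∀ P : MvPolynomial (Fin n) A₀, algebraMap A₀ A₁ (aeval b₀ P) = aeval (fun i => j (b' i)) P := by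
    intro P
    refine (comp_aeval_apply (f := b₀) (Algebra.ofId A₀ A₁) P).trans ?_
    simp only [b₀, b', hjA]; rfl
  have hb'c : ∀ i, t' ^ (p + 1) ∣ b' i - c i := fun i => by
    have h1 : t' ^ (p + 1) ∣ algebraMap A A' (a i) - c i := (pow_dvd_pow _ (by omega)).trans (ha' i)
    have h2 := dvd_add (dvd_mul_right (t' ^ (p + 1)) (algebraMap A A' (xi i))) h1
    convert h2 using 1
    simp [b', b, ← ht']; ring
  have hsmall : ∀ m r, ∃ v, algebraMap A₀ A₁ (M m r) = j (t' * v) := by
    intro m r
    have hUs : ∃ v, aeval (fun i => j (b' i)) (U m r) = j (t' * v) := by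
      obtain ⟨v, hv⟩ := hdvd b' c (p + 1) (U₁ (m, r)) hb'c
      refine ⟨t' ^ (p - eU) * v, ((IsLocalization.Away.algebraMap_isUnit (S := A₁) t').pow eU).mul_left_cancel ?_⟩
      rw [hev b' _ eU _ (hU₁ (m, r)), sub_eq_iff_eq_add.1 hv, map_add j,
        ← hev c _ eU _ (hU₁ (m, r)), ← hxc, hU, map_zero, mul_zero, add_zero, ← hj]
      simp only [map_mul, map_pow, ← ht']
      rw [show p + 1 = eU + 1 + (p - eU) by omega]
      ring
    obtain ⟨v, hv⟩ := hUs
    choose vk hvk using fun k : Fin n => show ∃ v, j (algebraMap A A' (t ^ (p + 1) * xi k)) *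
        aeval (fun i => j (b' i)) (W m r k) = j (t' * v) from by
      refine ⟨t' ^ (p - eW) * algebraMap A A' (xi k) * aeval b' (W₁ ((m, r), k)),
        ((IsLocalization.Away.algebraMap_isUnit (S := A₁) t').pow eW).mul_left_cancel ?_⟩
      rw [mul_left_comm, hev b' _ eW _ (hW₁ ((m, r), k)), ← hj]
      simp only [map_mul, map_pow, ← ht']
      rw [show p + 1 = eW + 1 + (p - eW) by omega]
      ring
    refine ⟨v + ∑ k, vk k, ?_⟩
    simp only [M, Matrix.of_apply, map_add, map_sum, map_mul (algebraMap A₀ A₁), hb₁, mul_add, Finset.mul_sum]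
    rw [hv]
    congr 1
    refine Finset.sum_congr rfl fun k _ => ?_
    rw [← hvk k, hjA]
    congr 1
    simp [b₀, a₀, b]
  choose V hV using hsmall
  have hdet : ∃ v, (1 - t' • Matrix.of V : Matrix (Fin nT) (Fin nT) A').det = 1 + t' * v := by
    obtain ⟨v, hv⟩ : t' ∣ (1 - t' • Matrix.of V : Matrix (Fin nT) (Fin nT) A').det - 1 := by
      rw [← Ideal.mem_span_singleton, ← Ideal.Quotient.eq, map_one, RingHom.map_det]
      refine Eq.trans (congrArg Matrix.det ?_) Matrix.det_one
      ext m r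
      have : Ideal.Quotient.mk (Ideal.span {t'}) (t' * V m r) = 0 :=
        Ideal.Quotient.eq_zero_iff_mem.2 (Ideal.mul_mem_right _ _ (Ideal.mem_span_singleton_self t'))
      by_cases hmr : m = r
      · subst hmr; simp [this]
      · simp [hmr, this]
    exact ⟨v, by rw [← hv]; ring⟩
  obtain ⟨v, hv⟩ := hdet
  have hunit : IsUnit (1 - M).det := by
    refine h.isUnit_of_map (A₁ := A₁) v ?_
    rw [← hv, RingHom.map_det, RingHom.map_det]
    congr 1
    ext m r
    by_cases hmr : m = r
    · subst hmr; simp [hV, ← ht', ← hj]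
    · simp [hmr, hV, ← ht', ← hj]
  have hzero : (fun m => aeval b₀ (f m)) = 0 := by
    have h1 : (1 - M).mulVec (fun m => aeval b₀ (f m)) = 0 := by
      rw [Matrix.sub_mulVec, Matrix.one_mulVec, sub_eq_zero]
      funext m
      exact hkey m
    have h2 := congrArg ((1 - M).adjugate.mulVec) h1
    rw [Matrix.mulVec_mulVec, Matrix.adjugate_mul, Matrix.smul_mulVec, Matrix.one_mulVec, Matrix.mulVec_zero] at h2
    funext m
    exact hunit.mul_right_eq_zero.1 (congrFun h2 m)
  let ψ : (MvPolynomial (Fin n) A₀ ⧸ RingHom.ker φ.toRingHom) →ₐ[A₀] A₀ :=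
    Ideal.Quotient.liftₐ _ (aeval b₀) (by
      show RingHom.ker φ.toRingHom ≤ RingHom.ker _
      rw [hf, Ideal.span_le]
      rintro _ ⟨m, rfl⟩
      exact congrFun hzero m)
  exact ⟨ψ.comp (Ideal.quotientKerAlgEquivOfSurjective hφ).symm.toAlgHom⟩

end Groth.L15.FEtHens
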