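import Groth.Agent.L15.FEtHens.Descent
import Mathlib.RingTheory.RingHom.Etale
import Mathlib.RingTheory.Ideal.GoingUp

/-!
Every finite étale algebra over the big localization comes from the small one.
-/

set_option autoImplicit false
set_option linter.style.haveILetI false
universe u

open TensorProduct

namespace Groth.L15.FEtHens

/-- The kernel of a surjection from a finite type algebra to a finitely presented one. -/
theorem fg_ker_of_finiteType {R S T : Type u} [CommRing R] [CommRing S] [CommRing T] [Algebra R S]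
    [Algebra R T] [Algebra.FiniteType R S] [Algebra.FinitePresentation R T] (f : S →ₐ[R] T)
    (hf : Function.Surjective f) : (RingHom.ker f.toRingHom).FG := by
  obtain ⟨n, g, hg⟩ := Algebra.FiniteType.iff_quotient_mvPolynomial''.1 ‹Algebra.FiniteType R S›
  have h1 := (Algebra.FinitePresentation.ker_fg_of_mvPolynomial (f.comp g) (hf.comp hg)).map g.toRingHom
  have h2 : RingHom.ker (f.comp g).toRingHom = (RingHom.ker f.toRingHom).comap g.toRingHom := by
    ext x; rfl
  rwa [h2, Ideal.map_comap_of_surjective g.toRingHom hg] at h1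

/-- A finite subalgebra containing enough denominators generates a finite quotient of the base change. -/
theorem surjective_of_open {R R' E C : Type u} [CommRing R] [CommRing R'] [Algebra R R'] [CommRing E]
    [Algebra R E] [CommRing C] [Algebra R' C] [Module.Finite R' C] (D : Subalgebra R E) (s : Finset D)
    (hspan : Ideal.span ((↑) '' (s : Set D) : Set E) = ⊤)
    (hs : ∀ r ∈ s, ∀ x : E, ∃ k : ℕ, (r : E) ^ k * x ∈ D) (π : R' ⊗[R] E →ₐ[R'] C)
    (hπ : Function.Surjective π) :
    Function.Surjective (π.comp (Algebra.TensorProduct.map (AlgHom.id R' R') D.val)) := by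
  set μ := π.comp (Algebra.TensorProduct.map (AlgHom.id R' R') D.val) with hμ
  let P : Subalgebra R' C := μ.range
  haveI : Module.Finite P C := Module.Finite.of_restrictScalars_finite R' P C
  have hmem : ∀ d : D, π (1 ⊗ₜ (d : E)) ∈ P := fun d => ⟨1 ⊗ₜ d, rfl⟩
  let T : Set P := (fun d : D => (⟨π (1 ⊗ₜ (d : E)), hmem d⟩ : P)) '' (s : Set D)
  let φ : E →+* C := π.toRingHom.comp
    (Algebra.TensorProduct.includeRight : E →ₐ[R] R' ⊗[R] E).toRingHom
  have hT : Ideal.span T = ⊤ := by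
    refine (Ideal.map_eq_top_iff P.val.toRingHom Subtype.val_injective ?_).1 ?_
    · exact fun z => Algebra.IsIntegral.isIntegral (R := P) z
    · rw [Ideal.map_span, ← Set.image_comp]
      have h1 := congrArg (Ideal.map φ) hspan
      rw [Ideal.map_span, Ideal.map_top, ← Set.image_comp] at h1
      exact h1
  have hP : ∀ x : E, π (1 ⊗ₜ x) ∈ P := by
    intro x
    let I : Ideal P := (LinearMap.range (Algebra.linearMap P C)).comap
      (LinearMap.toSpanSingleton P C (π (1 ⊗ₜ x)))
    have hI : Ideal.span T ≤ I.radical := by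
      rw [Ideal.span_le]
      rintro _ ⟨d, hd, rfl⟩
      obtain ⟨k, hk⟩ := hs d hd x
      refine ⟨k, ⟨⟨_, hmem ⟨_, hk⟩⟩, ?_⟩⟩
      show π (1 ⊗ₜ ((d : E) ^ k * x)) = (π (1 ⊗ₜ (d : E))) ^ k * π (1 ⊗ₜ x)
      rw [← map_pow, ← map_mul, Algebra.TensorProduct.tmul_pow, Algebra.TensorProduct.tmul_mul_tmul,
        one_pow, one_mul]
    rw [hT, top_le_iff, Ideal.radical_eq_top] at hI
    obtain ⟨a, ha⟩ : (1 : P) ∈ I := hI ▸ trivial
    have ha' : (a : C) = π (1 ⊗ₜ x) := ha.trans (one_smul _ _)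
    rw [← ha']
    exact a.2
  intro z
  obtain ⟨w, rfl⟩ := hπ z
  show π w ∈ P
  induction w using TensorProduct.induction_on with
  | zero => rw [map_zero]; exact zero_mem _
  | tmul a x =>
    rw [show a ⊗ₜ[R] x = a • ((1 : R') ⊗ₜ[R] x) by rw [TensorProduct.smul_tmul', smul_eq_mul, mul_one],
      map_smul]
    exact P.smul_mem (hP x) a
  | add u v hu hv => rw [map_add]; exact add_mem hu hv

/-- The kernel of the base change of a finite subalgebra onto an étale quotient is idempotent. -/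
theorem exists_idem_ker_open {R R' E C : Type u} [CommRing R] [CommRing R'] [Algebra R R'] [CommRing E]
    [Algebra R E] [Algebra.Etale R E] [CommRing C] [Algebra R' C] [Module.Finite R' C] [Algebra.Etale R' C]
    (D : Subalgebra R E) [Module.Finite R D] (s : Finset D)
    (hspan : Ideal.span ((↑) '' (s : Set D) : Set E) = ⊤)
    (hs : ∀ r ∈ s, ∀ x : E, ∃ k : ℕ, (r : E) ^ k * x ∈ D) (π : R' ⊗[R] E →ₐ[R'] C)
    (hπ : Function.Surjective π) :
    ∃ ε : R' ⊗[R] D, IsIdempotentElem ε ∧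
      RingHom.ker (π.comp (Algebra.TensorProduct.map (AlgHom.id R' R') D.val)).toRingHom =
        Ideal.span {ε} := by
  have hμs := surjective_of_open D s hspan hs π hπ
  set i : R' ⊗[R] D →ₐ[R'] R' ⊗[R] E := Algebra.TensorProduct.map (AlgHom.id R' R') D.val with hi
  set I : Ideal (R' ⊗[R] D) := RingHom.ker (π.comp i).toRingHom with hIdef
  obtain ⟨f, hf, hker⟩ := exists_idem_ker π hπ
  have hfg : I.FG := fg_ker_of_finiteType _ hμs
  have hlift : ∀ r ∈ s, ∀ w : R' ⊗[R] E, ∃ (k : ℕ) (y : R' ⊗[R] D),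
      i y = ((1 : R') ⊗ₜ[R] (r : E)) ^ k * w := by
    intro r hr w
    induction w using TensorProduct.induction_on with
    | zero => exact ⟨0, 0, by simp⟩
    | tmul a x =>
      obtain ⟨k, hk⟩ := hs r hr x
      refine ⟨k, a ⊗ₜ ⟨_, hk⟩, ?_⟩
      rw [Algebra.TensorProduct.tmul_pow, one_pow, Algebra.TensorProduct.tmul_mul_tmul, one_mul]
      rfl
    | add u v hu hv =>
      obtain ⟨k, y, hy⟩ := hu
      obtain ⟨l, z, hz⟩ := hv
      have hr' : i ((1 : R') ⊗ₜ[R] r) = (1 : R') ⊗ₜ[R] (r : E) := rfl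
      exact ⟨k + l, ((1 : R') ⊗ₜ[R] r) ^ l * y + ((1 : R') ⊗ₜ[R] r) ^ k * z, by
        rw [map_add, map_mul, map_mul, map_pow, map_pow, hr', hy, hz]; ring⟩
  have hII : I ≤ I * I := by
    intro x hx
    let J : Ideal (R' ⊗[R] D) := Submodule.comap (LinearMap.mulRight (R' ⊗[R] D) x) (I * I)
    have hJI : I ≤ J := fun a ha => Ideal.mul_mem_mul ha hx
    have hJr : ∀ r ∈ s, ((1 : R') ⊗ₜ[R] r) ∈ J.radical := by
      intro r hr
      obtain ⟨k, y, hy⟩ := hlift r hr f
      have hyI : y ∈ I := by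
        show π (i y) = 0
        have : π f = 0 := hker.ge (Ideal.mem_span_singleton_self f)
        rw [hy, map_mul, this, mul_zero]
      have hix : i x = f * i x := by
        obtain ⟨c, hc⟩ := Ideal.mem_span_singleton.1 (hker.le (show i x ∈ RingHom.ker π.toRingHom from hx))
        rw [hc, ← mul_assoc, hf.eq]
      have h0 : i (((1 : R') ⊗ₜ[R] r) ^ k * x - y * x) = 0 := by
        rw [map_sub, map_mul, map_mul, map_pow, hy, mul_assoc, ← hix]
        exact sub_self _
      obtain ⟨m, hm⟩ := exists_pow_mul_eq_zero (hs r hr) R' h0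
      refine ⟨m + k, ?_⟩
      show ((1 : R') ⊗ₜ[R] r) ^ (m + k) * x ∈ I * I
      rw [mul_sub, sub_eq_zero] at hm
      rw [pow_add, mul_assoc, hm]
      exact Ideal.mul_mem_left _ _ (Ideal.mul_mem_mul hyI hx)
    have htop : (⊤ : Ideal (R' ⊗[R] D)) ≤ J.radical := by
      let S : Set (R' ⊗[R] D) := (fun r : D => (1 : R') ⊗ₜ[R] r) '' (s : Set D)
      have hS : (Ideal.span S).map (π.comp i).toRingHom = ⊤ := by
        let φ : E →+* C := π.toRingHom.comp
          (Algebra.TensorProduct.includeRight : E →ₐ[R] R' ⊗[R] E).toRingHom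
        rw [Ideal.map_span, ← Set.image_comp]
        have h1 := congrArg (Ideal.map φ) hspan
        rw [Ideal.map_span, Ideal.map_top, ← Set.image_comp] at h1
        exact h1
      have h2 := Ideal.comap_map_of_surjective (π.comp i).toRingHom hμs (Ideal.span S)
      rw [hS, Ideal.comap_top, ← RingHom.ker_eq_comap_bot, ← hIdef] at h2
      rw [h2]
      refine sup_le (Ideal.span_le.2 ?_) (hJI.trans Ideal.le_radical)
      rintro _ ⟨r, hr, rfl⟩
      exact hJr r hr
    rw [top_le_iff, Ideal.radical_eq_top, Ideal.eq_top_iff_one] at htop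
    have h3 : (1 : R' ⊗[R] D) * x ∈ I * I := htop
    rwa [one_mul] at h3
  exact (Ideal.isIdempotentElem_iff_of_fg _ hfg).1 (le_antisymm Ideal.mul_le_left hII)

/-- The base change of the quotient by an idempotent. -/
theorem exists_quot_equiv {R R' D C : Type u} [CommRing R] [CommRing R'] [Algebra R R'] [CommRing D]
    [Algebra R D] [CommRing C] [Algebra R' C] (μ : R' ⊗[R] D →ₐ[R'] C) (hμs : Function.Surjective μ) (f : D)
    (hker : RingHom.ker μ.toRingHom = Ideal.span {(1 : R') ⊗ₜ[R] f}) :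
    ∃ e : R' ⊗[R] (D ⧸ Ideal.span {f}) ≃ₐ[R'] C,
      ∀ d, e (1 ⊗ₜ Ideal.Quotient.mk _ d) = μ (1 ⊗ₜ d) := by
  letI := ((algebraMap R' C).comp (algebraMap R R')).toAlgebra
  haveI : IsScalarTower R R' C := IsScalarTower.of_algebraMap_eq fun _ => rfl
  let J : Ideal D := Ideal.span {f}
  let g : (D ⧸ J) →ₐ[R] C := Ideal.Quotient.liftₐ J
    ((μ.restrictScalars R).comp Algebra.TensorProduct.includeRight) (by
      show J ≤ RingHom.ker _
      rw [Ideal.span_le, Set.singleton_subset_iff]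
      exact hker.ge (Ideal.mem_span_singleton_self _))
  let Φ : R' ⊗[R] (D ⧸ J) →ₐ[R'] C :=
    Algebra.TensorProduct.lift (Algebra.ofId R' C) g (fun _ _ => Commute.all _ _)
  let q : R' ⊗[R] D →ₐ[R'] R' ⊗[R] (D ⧸ J) :=
    Algebra.TensorProduct.map (AlgHom.id R' R') (Ideal.Quotient.mkₐ R J)
  have hΦ1 : ∀ d, Φ (1 ⊗ₜ Ideal.Quotient.mk J d) = μ (1 ⊗ₜ d) := fun d => by
    show algebraMap R' C 1 * μ (1 ⊗ₜ d) = μ (1 ⊗ₜ d)
    rw [map_one, one_mul]
  have hΦq : Φ.comp q = μ :=
    Algebra.TensorProduct.ext (AlgHom.ext fun a => ((Φ.comp q).commutes a).trans (μ.commutes a).symm)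
      (AlgHom.ext hΦ1)
  have hq : Function.Surjective q := by
    intro w
    induction w using TensorProduct.induction_on with
    | zero => exact ⟨0, map_zero _⟩
    | tmul a b =>
      obtain ⟨d, rfl⟩ := Ideal.Quotient.mk_surjective b
      exact ⟨a ⊗ₜ d, rfl⟩
    | add u v hu hv =>
      obtain ⟨a, rfl⟩ := hu
      obtain ⟨b, rfl⟩ := hv
      exact ⟨a + b, map_add _ _ _⟩
  have hΦs : Function.Surjective Φ := fun z => by
    obtain ⟨w, rfl⟩ := hμs z
    exact ⟨q w, AlgHom.congr_fun hΦq w⟩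
  have hΦi : Function.Injective Φ := by
    rw [injective_iff_map_eq_zero]
    intro w hw
    obtain ⟨v, rfl⟩ := hq w
    have hv : v ∈ RingHom.ker μ.toRingHom := (AlgHom.congr_fun hΦq v).symm.trans hw
    obtain ⟨c, rfl⟩ := Ideal.mem_span_singleton.1 (hker.le hv)
    have h0 : q ((1 : R') ⊗ₜ[R] f) = 0 := by
      show (1 : R') ⊗ₜ[R] Ideal.Quotient.mk J f = 0
      rw [Ideal.Quotient.eq_zero_iff_mem.2 (Ideal.mem_span_singleton_self f), TensorProduct.tmul_zero]
    rw [map_mul, h0, zero_mul]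
  exact ⟨AlgEquiv.ofBijective Φ ⟨hΦi, hΦs⟩, hΦ1⟩

/-- A quotient by an idempotent is étale if it is covered by opens of an étale algebra. -/
theorem etale_quot {R E : Type u} [CommRing R] [CommRing E] [Algebra R E] [Algebra.Etale R E]
    (D : Subalgebra R E) (s : Finset D) (hs : ∀ r ∈ s, ∀ x : E, ∃ k : ℕ, (r : E) ^ k * x ∈ D) (f : D)
    (hf : IsIdempotentElem f) (hS : Ideal.span (Ideal.Quotient.mk (Ideal.span {f}) '' (s : Set D)) = ⊤) :
    Algebra.Etale R (D ⧸ Ideal.span {f}) := by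
  rw [← RingHom.etale_algebraMap]
  refine RingHom.Etale.ofLocalizationSpanTarget _ _ hS ?_
  rintro ⟨_, r, hr, rfl⟩
  rw [← IsScalarTower.algebraMap_eq, RingHom.etale_algebraMap]
  let e : D := 1 - f
  let L := Localization.Away (Ideal.Quotient.mk (Ideal.span {f}) r)
  let L' := Localization.Away ((e * r : D) : E)
  haveI : IsLocalization.Away e (D ⧸ Ideal.span {f}) := IsLocalization.away_of_isIdempotentElem hf.one_sub
    (by
      show RingHom.ker (Ideal.Quotient.mk _) = _
      rw [Ideal.mk_ker, sub_sub_cancel]) Ideal.Quotient.mk_surjective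
  haveI : IsLocalization.Away (algebraMap D (D ⧸ Ideal.span {f}) r) L :=
    inferInstanceAs (IsLocalization.Away (Ideal.Quotient.mk (Ideal.span {f}) r) L)
  haveI : IsLocalization.Away (e * r) L := IsLocalization.Away.mul' (D ⧸ Ideal.span {f}) L e r
  haveI : IsLocalization.Away (e * r) L' := isLocalization_away_subalgebra (fun x => by
    obtain ⟨k, hk⟩ := hs r hr x
    refine ⟨k, ?_⟩
    rw [MulMemClass.coe_mul, mul_pow, mul_assoc]
    exact D.mul_mem (D.pow_mem e.2 k) hk) L' fun _ => rfl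
  haveI : Algebra.Etale E L' := Algebra.Etale.of_isLocalizationAway ((e * r : D) : E)
  haveI : Algebra.Etale R L' := Algebra.Etale.comp R E L'
  exact Algebra.Etale.of_equiv ((IsLocalization.algEquiv (Submonoid.powers (e * r)) L' L).restrictScalars R)

variable {A A' A₀ A₁ : Type u} [CommRing A] [CommRing A'] [Algebra A A'] [CommRing A₀] [CommRing A₁]
  [Algebra A A₀] [Algebra A A₁] [Algebra A' A₁] [Algebra A₀ A₁] [IsScalarTower A A' A₁]
  [IsScalarTower A A₀ A₁] {t : A} [IsLocalization.Away t A₀]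
  [IsLocalization.Away (algebraMap A A' t) A₁] (h : IsApprox A A' t)

include h

/-- Generators of the unit ideal are detected after base change. -/
theorem IsApprox.span_eq_top_of_tensor {B : Type u} [CommRing B] [Algebra A₀ B] [Module.Finite A₀ B]
    (S : Set B) (hS : Ideal.span ((fun b : B => (1 : A₁) ⊗ₜ[A₀] b) '' S) = ⊤) : Ideal.span S = ⊤ := by
  let qN : A₁ ⊗[A₀] B →ₐ[A₁] A₁ ⊗[A₀] (B ⧸ Ideal.span S) :=
    Algebra.TensorProduct.map (AlgHom.id A₁ A₁) (Ideal.Quotient.mkₐ A₀ (Ideal.span S))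
  have hle : Ideal.span ((fun b : B => (1 : A₁) ⊗ₜ[A₀] b) '' S) ≤ RingHom.ker qN.toRingHom := by
    rw [Ideal.span_le]
    rintro _ ⟨b, hb, rfl⟩
    show (1 : A₁) ⊗ₜ[A₀] Ideal.Quotient.mk (Ideal.span S) b = 0
    rw [Ideal.Quotient.eq_zero_iff_mem.2 (Ideal.subset_span hb), TensorProduct.tmul_zero]
  have h1 : qN 1 = 0 := hle (hS ▸ trivial)
  haveI : Subsingleton (A₁ ⊗[A₀] (B ⧸ Ideal.span S)) :=
    subsingleton_of_zero_eq_one (h1.symm.trans (map_one qN))
  haveI := h.subsingleton_of_tensor (A₀ := A₀) (A₁ := A₁) (B ⧸ Ideal.span S)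
  exact Ideal.Quotient.subsingleton_iff.1 this

/-- Finite étale algebras descend. -/
theorem IsApprox.exists_finite_etale (C : Type u) [CommRing C] [Algebra A₁ C] [Module.Finite A₁ C]
    [Algebra.Etale A₁ C] :
    ∃ (B : Type u) (_ : CommRing B) (_ : Algebra A₀ B) (_ : Module.Finite A₀ B) (_ : Algebra.Etale A₀ B),
      Nonempty (A₁ ⊗[A₀] B ≃ₐ[A₁] C) := by
  obtain ⟨E, _, _, _, π, hπ⟩ := h.exists_etale_surjection (A₀ := A₀) (A₁ := A₁) C
  obtain ⟨D, _, s, hspan, hs⟩ := exists_finite_open (R := A₀) (E := E)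
  obtain ⟨ε, hε, hker⟩ := exists_idem_ker_open (R := A₀) (R' := A₁) (E := E) (C := C) D s hspan hs π hπ
  have hμs := surjective_of_open D s hspan hs π hπ
  letI : Algebra A D := ((algebraMap A₀ D).comp (algebraMap A A₀)).toAlgebra
  haveI : IsScalarTower A A₀ D := IsScalarTower.of_algebraMap_eq fun _ => rfl
  obtain ⟨f, hf, rfl⟩ := h.idem_surjective (A₀ := A₀) (A₁ := A₁) hε
  obtain ⟨e, he⟩ := exists_quot_equiv _ hμs f hker
  have hS : Ideal.span (Ideal.Quotient.mk (Ideal.span {f}) '' (s : Set D)) = ⊤ := by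
    refine h.span_eq_top_of_tensor (A₀ := A₀) (A₁ := A₁) _ ?_
    refine (Ideal.map_eq_top_iff e.toAlgHom.toRingHom e.injective (RingHom.IsIntegral.of_finite
      (RingHom.Finite.of_surjective _ e.surjective))).1 ?_
    have h3 := congrArg (Ideal.map (π.toRingHom.comp
      (Algebra.TensorProduct.includeRight : E →ₐ[A₀] A₁ ⊗[A₀] E).toRingHom)) hspan
    rw [Ideal.map_span, Ideal.map_top, ← Set.image_comp] at h3
    rw [Ideal.map_span, ← Set.image_comp, ← Set.image_comp]
    exact (congrArg Ideal.span (Set.image_congr fun d _ => he d)).trans h3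
  haveI := etale_quot D s hs f hf hS
  exact ⟨D ⧸ Ideal.span {f}, inferInstance, inferInstance, inferInstance, this, ⟨e⟩⟩

end Groth.L15.FEtHens
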