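import Groth.Agent.L15.FEtHens.Idem
import Mathlib.RingTheory.Etale.StandardEtale
import Mathlib.RingTheory.Unramified.Finite
import Mathlib.RingTheory.TensorProduct.Finite

/-!
Maps between finite étale algebras over the two localizations correspond bijectively.
-/

set_option autoImplicit false
set_option linter.style.haveILetI false
universe u

open TensorProduct

namespace Groth.L15.FEtHens

variable {A A' A₀ A₁ : Type u} [CommRing A] [CommRing A'] [Algebra A A'] [CommRing A₀] [CommRing A₁]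
  [Algebra A A₀] [Algebra A A₁] [Algebra A' A₁] [Algebra A₀ A₁] [IsScalarTower A A' A₁]
  [IsScalarTower A A₀ A₁] {t : A} [IsLocalization.Away t A₀]
  [IsLocalization.Away (algebraMap A A' t) A₁] (h : IsApprox A A' t)

theorem isIdempotentElem_elem (R S : Type u) [CommRing R] [CommRing S] [Algebra R S]
    [Algebra.FormallyUnramified R S] [Algebra.EssFiniteType R S] :
    IsIdempotentElem (Algebra.FormallyUnramified.elem R S) := by
  have key : ∀ z : S ⊗[R] S, z * Algebra.FormallyUnramified.elem R S =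
      (Algebra.TensorProduct.lmul' R z ⊗ₜ[R] (1 : S)) * Algebra.FormallyUnramified.elem R S := by
    intro z
    induction z using TensorProduct.induction_on with
    | zero => simp
    | tmul x y =>
      rw [show x ⊗ₜ[R] y = (x ⊗ₜ[R] (1 : S)) * (1 ⊗ₜ[R] y) by
          rw [Algebra.TensorProduct.tmul_mul_tmul, mul_one, one_mul], mul_assoc,
        Algebra.FormallyUnramified.one_tmul_mul_elem, ← mul_assoc]
      simp
    | add a b ha hb => rw [add_mul, ha, hb, map_add, TensorProduct.add_tmul, add_mul]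
  show _ * _ = _
  rw [key, Algebra.FormallyUnramified.lmul_elem, ← Algebra.TensorProduct.one_def, one_mul]

/-- The kernel of a surjection of étale algebras is generated by an idempotent. -/
theorem exists_idem_ker {R S T : Type u} [CommRing R] [CommRing S] [CommRing T] [Algebra R S]
    [Algebra R T] [Algebra.Etale R S] [Algebra.Etale R T] (β : S →ₐ[R] T) (hβ : Function.Surjective β) :
    ∃ f : S, IsIdempotentElem f ∧ RingHom.ker β.toRingHom = Ideal.span {f} := by
  letI := β.toRingHom.toAlgebra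
  haveI : IsScalarTower R S T := IsScalarTower.of_algebraMap_eq fun r => (β.commutes r).symm
  exact (Ideal.isIdempotentElem_iff_of_fg _
    (Algebra.FinitePresentation.ker_fG_of_surjective β hβ)).mp
    ((Algebra.FormallyEtale.iff_of_surjective (R := S) (S := T) hβ).mp (.of_restrictScalars (R := R)))

include h

/-- A finite module killed by the base change is zero. -/
theorem IsApprox.subsingleton_of_tensor (M : Type u) [AddCommGroup M] [Module A₀ M] [Module.Finite A₀ M]
    [Subsingleton (A₁ ⊗[A₀] M)] : Subsingleton M := by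
  letI := Module.compHom M (algebraMap A A₀)
  haveI : IsScalarTower A A₀ M := IsScalarTower.of_algebraMap_smul fun _ _ => rfl
  obtain ⟨T, hT⟩ := Module.Finite.fg_top (R := A₀) (M := M)
  let M₀ : Submodule A M := Submodule.span A (T : Set M)
  haveI : Module.Finite A M₀ := Module.Finite.span_of_finite A T.finite_toSet
  have hunit : ∀ s : Submonoid.powers t, IsUnit (algebraMap A A₀ s) := fun s => IsLocalization.map_units A₀ s
  haveI : IsLocalizedModule (Submonoid.powers t) M₀.subtype := by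
    refine ⟨fun s => ?_, fun z => ?_, fun {x y} hxy => ⟨1, by rw [Subtype.ext hxy]⟩⟩
    · rw [Module.End.isUnit_iff]
      obtain ⟨v, hv⟩ := hunit s
      refine ⟨fun a b hab => ?_, fun z => ⟨(↑v⁻¹ : A₀) • z, ?_⟩⟩
      · have h1 : algebraMap A A₀ s • a = algebraMap A A₀ s • b := hab
        rw [← hv] at h1
        simpa [smul_smul] using congrArg ((↑v⁻¹ : A₀) • ·) h1
      · show algebraMap A A₀ s • (↑v⁻¹ : A₀) • z = z
        rw [smul_smul, ← hv, Units.mul_inv, one_smul]
    · have hz : z ∈ Submodule.span A₀ (T : Set M) := hT ▸ trivial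
      suffices ∃ n : ℕ, t ^ n • z ∈ M₀ by
        obtain ⟨n, hn⟩ := this
        exact ⟨(⟨_, hn⟩, ⟨t ^ n, n, rfl⟩), rfl⟩
      induction hz using Submodule.span_induction with
      | mem z hz => exact ⟨0, by rw [pow_zero, one_smul]; exact Submodule.subset_span hz⟩
      | zero => exact ⟨0, by rw [smul_zero]; exact zero_mem _⟩
      | add a b _ _ ha hb =>
        obtain ⟨m, hm⟩ := ha
        obtain ⟨n, hn⟩ := hb
        refine ⟨m + n, ?_⟩
        rw [smul_add, pow_add]
        refine add_mem ?_ ?_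
        · rw [mul_comm, mul_smul]; exact M₀.smul_mem _ hm
        · rw [mul_smul]; exact M₀.smul_mem _ hn
      | smul c a _ ha =>
        obtain ⟨m, hm⟩ := ha
        obtain ⟨⟨b, ⟨_, n, rfl⟩⟩, hb⟩ := IsLocalization.surj (Submonoid.powers t) c
        refine ⟨n + m, ?_⟩
        have : t ^ n • c • a = b • a := by
          rw [← smul_assoc, Algebra.smul_def (t ^ n) c, mul_comm, hb]
          exact IsScalarTower.algebraMap_smul A₀ b a
        rw [pow_add, mul_comm, mul_smul, this, smul_comm]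
        exact M₀.smul_mem _ hm
  haveI := isLocalizedModule_tensorMap (A' := A') t A₀ A₁ M₀.subtype
  obtain ⟨k, hk⟩ := h.exists_smul_eq_zero (M := M₀) fun m => by
    obtain ⟨⟨_, j, rfl⟩, hj⟩ := IsLocalizedModule.exists_of_eq (S := Submonoid.powers (algebraMap A A' t))
      (f := tensorMap (A' := A') A₀ A₁ M₀.subtype) (x₁ := (1 : A') ⊗ₜ[A] m) (x₂ := 0) (Subsingleton.elim _ _)
    refine ⟨j, ?_⟩
    rw [smul_zero] at hj
    rw [← IsScalarTower.algebraMap_smul A' (t ^ j), map_pow]
    exact hj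
  refine subsingleton_of_forall_eq 0 fun z => ?_
  obtain ⟨⟨m, s⟩, hm⟩ := IsLocalizedModule.surj (Submonoid.powers t) M₀.subtype z
  have h1 : t ^ k • (s : A) • z = 0 := by
    rw [show (s : A) • z = M₀.subtype m from hm, ← map_smul, hk, map_zero]
  rw [smul_smul, ← IsScalarTower.algebraMap_smul A₀] at h1
  obtain ⟨v, hv⟩ := ((hunit ⟨t ^ k, k, rfl⟩).mul (hunit s))
  rw [map_mul, ← hv] at h1
  simpa [smul_smul] using congrArg ((↑v⁻¹ : A₀) • ·) h1

variable {B B' : Type u} [CommRing B] [Algebra A₀ B] [Module.Finite A₀ B] [Algebra.Etale A₀ B]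
  [CommRing B'] [Algebra A₀ B'] [Module.Finite A₀ B'] [Algebra.Etale A₀ B']

/-- Maps between finite étale algebras are defined over `A₀`. -/
theorem IsApprox.existsUnique_algHom (ψ : B' →ₐ[A₀] A₁ ⊗[A₀] B) :
    ∃! φ : B' →ₐ[A₀] B, Algebra.TensorProduct.includeRight.comp φ = ψ := by
  letI := ((algebraMap A₀ B).comp (algebraMap A A₀)).toAlgebra
  haveI : IsScalarTower A A₀ B := IsScalarTower.of_algebraMap_eq fun _ => rfl
  let ι : (A₁ ⊗[A₀] B) →ₐ[A₁] (A₁ ⊗[A₀] (B ⊗[A₀] B')) := Algebra.TensorProduct.map (AlgHom.id A₁ A₁) Algebra.TensorProduct.includeLeft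
  let inclP : (B ⊗[A₀] B') →ₐ[A₀] (A₁ ⊗[A₀] (B ⊗[A₀] B')) := Algebra.TensorProduct.includeRight
  let inclQ : B →ₐ[A₀] (A₁ ⊗[A₀] B) := Algebra.TensorProduct.includeRight
  let j : B' →ₐ[A₀] (A₁ ⊗[A₀] (B ⊗[A₀] B')) := inclP.comp Algebra.TensorProduct.includeRight
  let χ : B' ⊗[A₀] B' →ₐ[A₀] (A₁ ⊗[A₀] (B ⊗[A₀] B')) :=
    Algebra.TensorProduct.lift ((ι.restrictScalars A₀).comp ψ) j (fun _ _ => Commute.all _ _)
  let θ₀ : (B ⊗[A₀] B') →ₐ[A₀] (A₁ ⊗[A₀] B) := Algebra.TensorProduct.lift inclQ ψ (fun _ _ => Commute.all _ _)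
  let θ : (A₁ ⊗[A₀] (B ⊗[A₀] B')) →ₐ[A₁] (A₁ ⊗[A₀] B) := Algebra.TensorProduct.lift (Algebra.ofId A₁ (A₁ ⊗[A₀] B)) θ₀ (fun _ _ => Commute.all _ _)
  have hθι : ∀ q, θ (ι q) = q := by
    intro q
    induction q using TensorProduct.induction_on with
    | zero => simp
    | tmul a b => simp [θ, θ₀, ι, inclQ]
    | add a b ha hb => rw [map_add, map_add, ha, hb]
  have hθj : ∀ x, θ (j x) = ψ x := fun x => by simp [θ, θ₀, j, inclP, inclQ, ← Algebra.TensorProduct.one_def]
  set e' := χ (Algebra.FormallyUnramified.elem A₀ B') with he'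
  have hθe : θ e' = 1 := by
    have : (θ.restrictScalars A₀).comp χ = ψ.comp (Algebra.TensorProduct.lmul' A₀) := by
      refine Algebra.TensorProduct.ext' fun x y => ?_
      show θ (ι (ψ x) * j y) = ψ _
      rw [map_mul, hθι, hθj, ← map_mul]
      exact congrArg ψ (Algebra.TensorProduct.lmul'_apply_tmul (R := A₀) x y).symm
    have h1 := AlgHom.congr_fun this (Algebra.FormallyUnramified.elem A₀ B')
    rw [AlgHom.comp_apply, AlgHom.comp_apply, Algebra.FormallyUnramified.lmul_elem, map_one] at h1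
    exact h1
  have hrel : ∀ x, j x * e' = ι (ψ x) * e' := by
    intro x
    have h1 := congrArg χ (Algebra.FormallyUnramified.one_tmul_mul_elem (R := A₀) x)
    rw [map_mul, map_mul] at h1
    simpa [χ] using h1
  have hkey : ∀ z : (A₁ ⊗[A₀] (B ⊗[A₀] B')), z * e' = ι (θ z) * e' := by
    intro z
    induction z using TensorProduct.induction_on with
    | zero => simp
    | tmul a c =>
      induction c using TensorProduct.induction_on with
      | zero => simp
      | tmul b b' =>
        have hz : a ⊗ₜ[A₀] (b ⊗ₜ[A₀] b') = ι (a ⊗ₜ b) * j b' := by simp [ι, j, inclP]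
        rw [hz, map_mul θ, map_mul ι, hθι, hθj, mul_assoc, hrel, ← mul_assoc]
      | add c d hc hd => rw [TensorProduct.tmul_add, add_mul, hc, hd, map_add, map_add, add_mul]
    | add a b ha hb => rw [add_mul, ha, hb, map_add, map_add, add_mul]
  obtain ⟨e, he, hee⟩ := h.idem_surjective (C := B ⊗[A₀] B') ((isIdempotentElem_elem A₀ B').map χ)
  rw [← he'] at hee
  let E := (B ⊗[A₀] B') ⧸ Ideal.span {1 - e}
  let mkE : (B ⊗[A₀] B') →ₐ[A₀] E := Ideal.Quotient.mkₐ A₀ _
  let β : B →ₐ[A₀] E := mkE.comp Algebra.TensorProduct.includeLeft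
  let θE : E →ₐ[A₀] (A₁ ⊗[A₀] B) := Ideal.Quotient.liftₐ _ θ₀ (fun c hc => by
    obtain ⟨d, rfl⟩ := Ideal.mem_span_singleton.1 hc
    have h1 : θ₀ e = 1 := by
      rw [← hθe, ← hee]
      simp [θ, ← Algebra.TensorProduct.one_def]
    rw [map_mul, map_sub, map_one, h1, sub_self, zero_mul])
  let γ : A₁ ⊗[A₀] E →ₐ[A₁] (A₁ ⊗[A₀] B) := Algebra.TensorProduct.lift (Algebra.ofId A₁ (A₁ ⊗[A₀] B)) θE (fun _ _ => Commute.all _ _)
  let β₁ : (A₁ ⊗[A₀] B) →ₐ[A₁] A₁ ⊗[A₀] E := Algebra.TensorProduct.map (AlgHom.id A₁ A₁) β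
  let mk₁ : (A₁ ⊗[A₀] (B ⊗[A₀] B')) →ₐ[A₁] A₁ ⊗[A₀] E := Algebra.TensorProduct.map (AlgHom.id A₁ A₁) mkE
  have hγ : ∀ z, γ (mk₁ z) = θ z := by
    intro z
    induction z using TensorProduct.induction_on with
    | zero => simp
    | tmul a c =>
      show algebraMap A₁ (A₁ ⊗[A₀] B) a * θE (mkE c) = algebraMap A₁ (A₁ ⊗[A₀] B) a * θ₀ c
      rfl
    | add a b ha hb => rw [map_add, map_add, map_add, ha, hb]
  have hmkι : ∀ q, mk₁ (ι q) = β₁ q := by
    intro q
    induction q using TensorProduct.induction_on with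
    | zero => simp
    | tmul a b => simp [mk₁, ι, β₁, β]
    | add a b ha hb => rw [map_add, map_add, map_add, ha, hb]
  have he1 : mk₁ e' = 1 := by
    have h2 : mkE e = 1 := by
      rw [← map_one mkE, eq_comm]
      exact Ideal.Quotient.eq.2 (Ideal.mem_span_singleton_self _)
    rw [← hee]
    simp [mk₁, h2, Algebra.TensorProduct.one_def]
  have hβ₁ : ∀ z, mk₁ z = β₁ (θ z) := fun z => by
    have h1 := congrArg mk₁ (hkey z)
    rw [map_mul, map_mul, he1] at h1
    exact (mul_one _).symm.trans (h1.trans ((mul_one _).trans (hmkι _)))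
  have hγβ : ∀ q, γ (β₁ q) = q := fun q => by rw [← hmkι, hγ, hθι]
  have hβ₁s : Function.Surjective β₁ := fun w => by
    obtain ⟨z, rfl⟩ := LinearMap.lTensor_surjective A₁ (g := mkE.toLinearMap) Ideal.Quotient.mk_surjective w
    exact ⟨θ z, by
      rw [← hβ₁]
      exact (LinearMap.congr_fun (show mk₁.toLinearMap.restrictScalars A₀ = mkE.toLinearMap.lTensor A₁ from
        TensorProduct.ext' fun a c => rfl) z)⟩
  -- `β` is bijective
  haveI : Module.Finite A₀ (B ⊗[A₀] B') := inferInstance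
  have hβs : Function.Surjective β := by
    haveI : Subsingleton (A₁ ⊗[A₀] (E ⧸ LinearMap.range β.toLinearMap)) := by
      refine subsingleton_of_forall_eq 0 fun w => ?_
      obtain ⟨w', rfl⟩ := LinearMap.lTensor_surjective A₁ (Submodule.mkQ_surjective _) w
      obtain ⟨q, rfl⟩ := hβ₁s w'
      have : β₁ q = β.toLinearMap.lTensor A₁ q := LinearMap.congr_fun
        (show β₁.toLinearMap.restrictScalars A₀ = β.toLinearMap.lTensor A₁ from TensorProduct.ext' fun a c => rfl) q
      rw [this, ← LinearMap.comp_apply, ← LinearMap.lTensor_comp, LinearMap.range_mkQ_comp, LinearMap.lTensor_zero,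
        LinearMap.zero_apply]
    haveI := h.subsingleton_of_tensor (A₀ := A₀) (A₁ := A₁) (E ⧸ LinearMap.range β.toLinearMap)
    exact LinearMap.range_eq_top.1 (Submodule.Quotient.subsingleton_iff.1 this)
  haveI : Algebra.Etale A₀ (B ⊗[A₀] B') := Algebra.Etale.comp A₀ B _
  haveI : IsLocalization.Away e E := IsLocalization.away_of_isIdempotentElem he
    (Ideal.Quotient.mkₐ_ker A₀ _) Ideal.Quotient.mk_surjective
  haveI : Algebra.Etale (B ⊗[A₀] B') E := Algebra.Etale.of_isLocalizationAway e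
  haveI : Algebra.Etale A₀ E := Algebra.Etale.comp A₀ (B ⊗[A₀] B') E
  have hβi : Function.Injective β := by
    obtain ⟨f, hf, hfe⟩ := exists_idem_ker β hβs
    have hf0 : β f = 0 := by
      have : f ∈ RingHom.ker β.toRingHom := hfe.ge (Ideal.mem_span_singleton_self f)
      exact this
    have : f = 0 := h.idem_injective (A₀ := A₀) (A₁ := A₁) hf IsIdempotentElem.zero (by
      rw [TensorProduct.tmul_zero, ← hγβ ((1 : A₁) ⊗ₜ f)]
      simp [β₁, hf0])
    rw [this] at hfe
    have hfe := hfe.trans (Ideal.span_singleton_eq_bot.2 rfl)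
    exact (RingHom.injective_iff_ker_eq_bot _).2 hfe
  let eβ := AlgEquiv.ofBijective β ⟨hβi, hβs⟩
  let φ : B' →ₐ[A₀] B := eβ.symm.toAlgHom.comp (mkE.comp Algebra.TensorProduct.includeRight)
  refine ⟨φ, AlgHom.ext fun x => ?_, fun φ₂ hφ₂ => AlgHom.ext fun x => ?_⟩
  · show (1 : A₁) ⊗ₜ[A₀] φ x = ψ x
    have h1 : β (φ x) = mkE (Algebra.TensorProduct.includeRight x) := eβ.apply_symm_apply _
    rw [← hγβ ((1 : A₁) ⊗ₜ φ x)]
    show γ ((1 : A₁) ⊗ₜ β (φ x)) = ψ x
    rw [h1, ← hθj x, ← hγ]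
    rfl
  · -- uniqueness through the graph idempotents
    let g : (B' →ₐ[A₀] B) → (B' ⊗[A₀] B' →ₐ[A₀] (B ⊗[A₀] B')) := fun φ => Algebra.TensorProduct.map φ (AlgHom.id A₀ B')
    have hg : ∀ φ' : B' →ₐ[A₀] B, inclQ.comp φ' = ψ → inclP.comp (g φ') = χ := fun φ' hφ' => by
      refine Algebra.TensorProduct.ext' fun a b => ?_
      simp [g, χ, j, ← hφ', inclP, inclQ, ι, Algebra.TensorProduct.tmul_mul_tmul]
    have hφ : inclQ.comp φ = ψ := AlgHom.ext fun x => by
      show (1 : A₁) ⊗ₜ[A₀] φ x = ψ x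
      have h1 : β (φ x) = mkE (Algebra.TensorProduct.includeRight x) := eβ.apply_symm_apply _
      rw [← hγβ ((1 : A₁) ⊗ₜ φ x)]
      show γ ((1 : A₁) ⊗ₜ β (φ x)) = ψ x
      rw [h1, ← hθj x, ← hγ]
      rfl
    set el := Algebra.FormallyUnramified.elem A₀ B' with hel
    have heq : g φ el = g φ₂ el := h.idem_injective (A₀ := A₀) (A₁ := A₁)
      ((isIdempotentElem_elem A₀ B').map _) ((isIdempotentElem_elem A₀ B').map _)
      ((AlgHom.congr_fun (hg φ hφ) el).trans (AlgHom.congr_fun (hg φ₂ hφ₂) el).symm)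
    let l : (B ⊗[A₀] B') →ₐ[A₀] B := Algebra.TensorProduct.lift (AlgHom.id A₀ B) φ (fun _ _ => Commute.all _ _)
    have hl : l (g φ el) = 1 := by
      have : l.comp (g φ) = φ.comp (Algebra.TensorProduct.lmul' A₀) :=
        Algebra.TensorProduct.ext' fun a b => by simp [l, g]
      have h1 := AlgHom.congr_fun this el
      rwa [AlgHom.comp_apply, AlgHom.comp_apply, hel, Algebra.FormallyUnramified.lmul_elem, map_one] at h1
    have h2 := congrArg (fun z => l (g φ₂ z)) (Algebra.FormallyUnramified.one_tmul_mul_elem (R := A₀) x)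
    simp only [map_mul, ← hel, ← heq, hl, mul_one] at h2
    simpa [l, g, eq_comm] using h2

end Groth.L15.FEtHens
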