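import Groth.Agent.L15.FEtHens.Approx
import Groth.Agent.L05.Hensel.Perm
import Mathlib.Tactic.LinearCombination

/-!
Idempotents of finite algebras over the localizations of two henselian pairs along a principal ideal.
-/

set_option autoImplicit false
set_option linter.style.haveILetI false
universe u

open TensorProduct

namespace Groth.L15.FEtHens

variable {A A' A₀ A₁ : Type u} [CommRing A] [CommRing A'] [Algebra A A'] [CommRing A₀] [CommRing A₁]
  [Algebra A A₀] [Algebra A A₁] [Algebra A' A₁] [Algebra A₀ A₁] [IsScalarTower A A' A₁]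
  [IsScalarTower A A₀ A₁] {t : A} [IsLocalization.Away t A₀]
  [IsLocalization.Away (algebraMap A A' t) A₁]

/-- A finite algebra over the localization has a finite lattice. -/
theorem exists_lattice {R R₀ : Type u} [CommRing R] [CommRing R₀] [Algebra R R₀] (r : R)
    [IsLocalization.Away r R₀] (C : Type u) [CommRing C] [Algebra R₀ C] [Algebra R C] [IsScalarTower R R₀ C]
    [Module.Finite R₀ C] (S : Finset C) (hS : ∀ s ∈ S, IsIntegral R s) :
    ∃ C₀ : Subalgebra R C, Module.Finite R C₀ ∧ (↑S ⊆ (C₀ : Set C)) ∧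
      IsLocalizedModule (Submonoid.powers r) C₀.val.toLinearMap := by
  classical
  obtain ⟨T, hT⟩ := Module.Finite.fg_top (R := R₀) (M := C)
  choose k hk using fun z : C => (Algebra.IsIntegral.isIntegral (R := R₀) z).exists_multiple_integral_of_isLocalization
    (Submonoid.powers r) z
  let G : Finset C := S ∪ T.image fun z => k z • z
  let C₀ := Algebra.adjoin R (G : Set C)
  have hG : ∀ x ∈ (G : Set C), IsIntegral R x := by
    intro x hx
    rcases Finset.mem_union.1 hx with hx | hx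
    · exact hS x hx
    · obtain ⟨z, -, rfl⟩ := Finset.mem_image.1 hx
      exact hk z
  refine ⟨C₀, ⟨(Submodule.fg_top _).2 (fg_adjoin_of_finite G.finite_toSet hG)⟩,
    fun x hx => Algebra.subset_adjoin (Finset.mem_union_left _ hx), ⟨fun s => ?_, fun z => ?_, fun {x y} hxy => ?_⟩⟩
  · obtain ⟨v, hv⟩ := (IsLocalization.map_units (M := Submonoid.powers r) R₀ s).map (algebraMap R₀ C)
    rw [Module.End.isUnit_iff]
    have h1 : ∀ x : C, algebraMap R (Module.End R C) (s : R) x = (v : C) * x := fun x => by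
      rw [Module.algebraMap_end_apply, Algebra.smul_def, hv, ← IsScalarTower.algebraMap_apply]
    refine ⟨fun a b hab => ?_, fun z => ⟨↑v⁻¹ * z, ?_⟩⟩
    · rw [h1, h1] at hab
      exact v.mul_right_inj.1 hab
    · rw [h1, ← mul_assoc, Units.mul_inv, one_mul]
  · have hz : z ∈ Submodule.span R₀ (T : Set C) := hT ▸ trivial
    suffices ∃ (n : ℕ), r ^ n • z ∈ C₀ by
      obtain ⟨n, hn⟩ := this
      exact ⟨(⟨_, hn⟩, ⟨r ^ n, n, rfl⟩), rfl⟩
    induction hz using Submodule.span_induction with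
    | mem z hz =>
      obtain ⟨n, hn⟩ := (k z).2
      exact ⟨n, by
        rw [show r ^ n = ((k z : Submonoid.powers r) : R) from hn]
        exact Algebra.subset_adjoin (Finset.mem_union_right _ (Finset.mem_image_of_mem (fun z => k z • z) hz))⟩
    | zero => exact ⟨0, by rw [smul_zero]; exact zero_mem _⟩
    | add a b _ _ ha hb =>
      obtain ⟨m, hm⟩ := ha
      obtain ⟨n, hn⟩ := hb
      refine ⟨m + n, ?_⟩
      rw [smul_add, pow_add]
      refine add_mem ?_ ?_
      · rw [mul_comm, mul_smul]; exact C₀.smul_mem hm _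
      · rw [mul_smul]; exact C₀.smul_mem hn _
    | smul c a _ ha =>
      obtain ⟨m, hm⟩ := ha
      obtain ⟨⟨b, ⟨_, n, rfl⟩⟩, hb⟩ := IsLocalization.surj (Submonoid.powers r) c
      refine ⟨n + m, ?_⟩
      have : r ^ n • c • a = b • a := by
        rw [← smul_assoc, Algebra.smul_def (r ^ n) c, mul_comm, hb]
        exact IsScalarTower.algebraMap_smul R₀ b a
      rw [pow_add, mul_comm, mul_smul, this, smul_comm]
      exact C₀.smul_mem hm _
  · exact ⟨1, by rw [Subtype.ext hxy]⟩

/-- Idempotents differing by a small element are equal. -/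
theorem idem_eq {D P : Type*} [CommRing D] [CommRing P] (φ : D →+* P) {τ : D}
    [HenselianRing D (Ideal.span {τ})] {e e' : P} (he : IsIdempotentElem e) (he' : IsIdempotentElem e')
    (x : D) (h : e - e' = φ (τ * x)) : e = e' := by
  have hu : IsUnit (1 - τ * x * (τ * x)) := Ideal.isUnit_of_sub_one_mem_jacobson_bot _ (by
    rw [sub_sub_cancel_left, neg_mem_iff]
    exact HenselianRing.jac (I := Ideal.span {τ})
      (Ideal.mul_mem_left _ _ (Ideal.mul_mem_right _ _ (Ideal.mem_span_singleton_self τ))))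
  have h1 : φ (1 - τ * x * (τ * x)) * (e - e') = 0 := by
    rw [map_sub, map_one, map_mul φ (τ * x), ← h]
    linear_combination (-(e + 1) + 3 * e') * he.eq + (e' + 1 - 3 * e) * he'.eq
  exact sub_eq_zero.1 (((hu.map φ).mul_right_eq_zero).1 h1)

section

variable (h : IsApprox A A' t) {C : Type u} [CommRing C] [Algebra A₀ C] [Algebra A C] [IsScalarTower A A₀ C]
  [Module.Finite A₀ C]

variable (A₀ A₁) in
/-- `tensorMap` for a lattice, as a ring map. -/
noncomputable def latticeMap (C₀ : Subalgebra A C) : A' ⊗[A] C₀ →ₐ[A] A₁ ⊗[A₀] C :=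
  Algebra.TensorProduct.lift
    ((Algebra.TensorProduct.includeLeft (R := A₀) (S := A) (A := A₁) (B := C)).comp
      (IsScalarTower.toAlgHom A A' A₁))
    (((Algebra.TensorProduct.includeRight (R := A₀) (A := A₁) (B := C)).restrictScalars A).comp C₀.val)
    (fun _ _ => Commute.all _ _)

omit [IsLocalization.Away t A₀] [IsLocalization.Away (algebraMap A A' t) A₁] [Module.Finite A₀ C] in
theorem latticeMap_eq (C₀ : Subalgebra A C) (d : A' ⊗[A] C₀) :
    latticeMap A₀ A₁ C₀ d = tensorMap A₀ A₁ C₀.val.toLinearMap d := by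
  induction d using TensorProduct.induction_on with
  | zero => simp
  | tmul a c => rw [tensorMap_tmul]; simp [latticeMap]
  | add a b ha hb => rw [map_add, map_add, ha, hb]

include h

omit [Module.Finite A₀ C] in
theorem IsApprox.henselian_lattice (C₀ : Subalgebra A C) [Module.Finite A C₀] :
    HenselianRing C₀ (Ideal.span {algebraMap A C₀ t}) ∧
      HenselianRing (A' ⊗[A] C₀) (Ideal.span {algebraMap A (A' ⊗[A] C₀) t}) := by
  have h1 := h.hens
  have h2 := h.hens'
  refine ⟨?_, ?_⟩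
  · have := Groth.L05.henselianRing_map_of_isIntegral (Ideal.span {t}) C₀
    rwa [Ideal.map_span, Set.image_singleton] at this
  · have := Groth.L05.henselianRing_map_of_isIntegral (Ideal.span {algebraMap A A' t}) (A' ⊗[A] C₀)
    rwa [Ideal.map_span, Set.image_singleton, ← IsScalarTower.algebraMap_apply] at this

theorem IsApprox.idem_injective {e e' : C} (he : IsIdempotentElem e) (he' : IsIdempotentElem e')
    (heq : (1 : A₁) ⊗ₜ[A₀] e = 1 ⊗ₜ e') : e = e' := by
  obtain ⟨C₀, _, -, _⟩ := exists_lattice (R₀ := A₀) t C ∅ (by simp)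
  haveI := (h.henselian_lattice C₀).1
  haveI := isLocalizedModule_tensorMap (A' := A') t A₀ A₁ C₀.val.toLinearMap
  obtain ⟨⟨x, ⟨_, n, rfl⟩⟩, hx⟩ := IsLocalizedModule.surj (Submonoid.powers t) C₀.val.toLinearMap (e - e')
  have hx' : t ^ n • (e - e') = (x : C) := hx
  have h0 : tensorMap (A' := A') A₀ A₁ C₀.val.toLinearMap (1 ⊗ₜ x) = tensorMap (A' := A') A₀ A₁ C₀.val.toLinearMap 0 := by
    rw [tensorMap_tmul, map_one, map_zero]
    show (1 : A₁) ⊗ₜ[A₀] (x : C) = 0
    rw [← hx', TensorProduct.tmul_smul, TensorProduct.tmul_sub, heq, sub_self, smul_zero]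
  obtain ⟨⟨_, k, rfl⟩, hk⟩ := IsLocalizedModule.exists_of_eq (S := Submonoid.powers (algebraMap A A' t)) h0
  have h1 : (1 : A') ⊗ₜ[A] (t ^ k • x) = t ^ (k + n + 1) • (0 : A' ⊗[A] C₀) := by
    rw [smul_zero] at hk
    rw [TensorProduct.tmul_smul, smul_zero, ← IsScalarTower.algebraMap_smul A' (t ^ k), map_pow]
    exact hk
  obtain ⟨x', hx''⟩ := h.exists_eq_smul _ h1
  refine idem_eq C₀.val.toRingHom (τ := algebraMap A C₀ t) he he' x' ?_
  show e - e' = ((algebraMap A C₀ t * x' : C₀) : C)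
  have h2 : t ^ (k + n) • (e - e') = t ^ (k + n) • ((algebraMap A C₀ t * x' : C₀) : C) := by
    rw [pow_add, mul_smul, hx', ← Algebra.smul_def, SetLike.val_smul, smul_smul, ← pow_add, ← pow_succ,
      ← SetLike.val_smul, ← SetLike.val_smul, hx'']
  exact ((Module.End.isUnit_iff _).1 (IsLocalizedModule.map_units (S := Submonoid.powers t) C₀.val.toLinearMap
    ⟨t ^ (k + n), k + n, rfl⟩)).1 h2

theorem IsApprox.idem_surjective {e : A₁ ⊗[A₀] C} (he : IsIdempotentElem e) :
    ∃ e' : C, IsIdempotentElem e' ∧ (1 : A₁) ⊗ₜ[A₀] e' = e := by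
  obtain ⟨C₀, _, -, _⟩ := exists_lattice (R₀ := A₀) t C ∅ (by simp)
  obtain ⟨hH, hH'⟩ := h.henselian_lattice C₀
  haveI := isLocalizedModule_tensorMap (A' := A') t A₀ A₁ C₀.val.toLinearMap
  set τ := algebraMap A C₀ t with hτ
  set ν := latticeMap (A' := A') A₀ A₁ C₀ with hνdef
  obtain ⟨⟨d, ⟨_, k, rfl⟩⟩, hd⟩ := IsLocalizedModule.surj (Submonoid.powers (algebraMap A A' t))
    (tensorMap (A' := A') A₀ A₁ C₀.val.toLinearMap) e
  have hd' : t ^ k • e = ν d := by
    rw [hνdef, latticeMap_eq, ← IsScalarTower.algebraMap_smul A' (t ^ k), map_pow]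
    exact hd
  have h0 : tensorMap A₀ A₁ C₀.val.toLinearMap (d * d - t ^ k • d) = tensorMap (A' := A') A₀ A₁ C₀.val.toLinearMap 0 := by
    rw [← latticeMap_eq, ← latticeMap_eq, map_sub, map_mul, map_smul, map_zero, ← hd', smul_mul_smul_comm,
      he.eq, smul_smul, sub_self]
  obtain ⟨⟨_, j, rfl⟩, hj⟩ := IsLocalizedModule.exists_of_eq (S := Submonoid.powers (algebraMap A A' t)) h0
  obtain ⟨c, z, hcz⟩ := h.approx (M := C₀) (j + 4 * k + 3) d
  have hj' : t ^ j • (d * d - t ^ k • d) = 0 := by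
    rw [smul_zero] at hj
    rw [← IsScalarTower.algebraMap_smul A' (t ^ j), map_pow]
    exact hj
  obtain ⟨c2, hc2⟩ : ∃ c2 : C₀, τ ^ j * (c * c - τ ^ k * c) = τ ^ (j + 4 * k + 3) * c2 := by
    have hm : (1 : A') ⊗ₜ[A] (t ^ j • (c * c - t ^ k • c)) = t ^ (j + 4 * k + 3) •
        (-(t ^ j • (2 * (((1 : A') ⊗ₜ[A] c) * z) + t ^ (j + 4 * k + 3) • (z * z) - t ^ k • z))) := by
      rw [TensorProduct.tmul_smul, TensorProduct.tmul_sub, TensorProduct.tmul_smul,
        show (1 : A') ⊗ₜ[A] (c * c) = ((1 : A') ⊗ₜ[A] c) * ((1 : A') ⊗ₜ[A] c) by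
          rw [Algebra.TensorProduct.tmul_mul_tmul, one_mul]]
      rw [hcz] at hj'
      have hsd : ∀ (r : A) (q : A' ⊗[A] C₀), r • q = algebraMap A (A' ⊗[A] C₀) r * q :=
        fun r q => Algebra.smul_def r q
      simp only [hsd, map_pow] at hj' ⊢
      linear_combination hj'
    obtain ⟨m', hm'⟩ := h.exists_eq_smul _ hm
    exact ⟨m', by simpa [Algebra.smul_def, τ] using hm'⟩
  -- the approximate idempotent and its correction
  obtain ⟨ti, hti⟩ : ∃ ti : A₀, algebraMap A A₀ t * ti = 1 :=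
    (IsLocalization.Away.algebraMap_isUnit (S := A₀) t).exists_right_inv
  set u : C := algebraMap A₀ C ti
  have htu : algebraMap A C t * u = 1 := by
    rw [IsScalarTower.algebraMap_apply A A₀ C, ← map_mul, hti, map_one]
  have htu' : ∀ m : ℕ, algebraMap A C t ^ m * u ^ m = 1 := fun m => by rw [← mul_pow, htu, one_pow]
  have hτC : (τ : C) = algebraMap A C t := rfl
  set ε : C₀ := τ ^ (2 * k + 3) * c2 with hεdef
  set e₀ : C := u ^ k * (c : C) with he₀
  have hε : e₀ * e₀ - e₀ = (ε : C) := by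
    have h1 : algebraMap A C t ^ j * ((c : C) * c - algebraMap A C t ^ k * c) =
        algebraMap A C t ^ (j + 4 * k + 3) * (c2 : C) := by
      have := congrArg Subtype.val hc2
      simpa [hτC] using this
    rw [hεdef, he₀]
    push_cast [hτC]
    have e1 := htu' j
    have e2 := htu' k
    linear_combination u ^ j * u ^ (2 * k) * h1 + (-(u ^ (2 * k) * ((c : C) * c - algebraMap A C t ^ k * c)) +
      algebraMap A C t ^ (4 * k + 3) * u ^ (2 * k) * (c2 : C)) * e1 +
      (u ^ k * (c : C) + algebraMap A C t ^ (2 * k + 3) * (c2 : C) * (algebraMap A C t ^ k * u ^ k + 1)) * e2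
  have hu : IsUnit (1 + 4 * ε) := Ideal.isUnit_of_sub_one_mem_jacobson_bot _ (by
    rw [add_sub_cancel_left, hεdef, pow_succ', mul_assoc τ]
    exact HenselianRing.jac (I := Ideal.span {τ})
      (Ideal.mul_mem_left _ _ (Ideal.mul_mem_right _ _ (Ideal.mem_span_singleton_self τ))))
  obtain ⟨v, hv⟩ := hu.exists_right_inv
  have hεJ : ε * v ∈ Ideal.span {τ} := by
    rw [hεdef, pow_succ', mul_assoc τ, mul_assoc τ]
    exact Ideal.mul_mem_right _ _ (Ideal.mem_span_singleton_self τ)
  obtain ⟨y, hyJ, hy⟩ : ∃ y ∈ Ideal.span {τ}, y ^ 2 + y + ε * v = 0 := by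
    obtain ⟨y, hy, hy0⟩ := HenselianRing.is_henselian (I := Ideal.span {τ})
      (Polynomial.X ^ 2 + (Polynomial.X + Polynomial.C (ε * v)))
      (Polynomial.monic_X_pow_add ((Polynomial.degree_add_le _ _).trans_lt (max_lt
        (Polynomial.degree_X_le.trans_lt (by norm_num)) (Polynomial.degree_C_le.trans_lt (by norm_num))))) 0
      (by simpa using hεJ) (by simp)
    refine ⟨y, by simpa using hy0, ?_⟩
    simpa [add_assoc] using hy.eq_zero
  obtain ⟨w, hw⟩ : ∃ w, (1 + y) * w = 1 := (Ideal.isUnit_of_sub_one_mem_jacobson_bot (1 + y) (by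
    rw [add_sub_cancel_left]; exact HenselianRing.jac hyJ)).exists_right_inv
  set c4 : C₀ := -(c2 * v * w) with hc4
  have hy' : y = τ ^ (2 * k + 3) * c4 := by
    rw [hc4, hεdef] at *
    linear_combination w * hy - y * hw
  have hidem : IsIdempotentElem (e₀ + (2 * e₀ - 1) * (y : C)) := by
    have hv' : (1 + 4 * (ε : C)) * (v : C) = 1 := by simpa only [map_add, map_mul, map_one, map_ofNat] using! congrArg C₀.val hv
    have hy2 : (y : C) ^ 2 + (y : C) + (ε : C) * (v : C) = 0 := by simpa using congrArg Subtype.val hy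
    show _ * _ = _
    linear_combination (1 + 4 * (y : C) ^ 2 + 4 * (y : C)) * hε + (1 + 4 * (ε : C)) * hy2 - (ε : C) * hv'
  refine ⟨e₀ + (2 * e₀ - 1) * (y : C), hidem, ?_⟩
  · symm
    refine idem_eq (τ := algebraMap A (A' ⊗[A] C₀) t) ν.toRingHom he ?_
      (t ^ (j + 3 * k + 2) • z - (1 : A') ⊗ₜ[A] (τ ^ (k + 2) * (2 * c - τ ^ k) * c4)) ?_
    · exact hidem.map (Algebra.TensorProduct.includeRight (R := A₀) (A := A₁) (B := C))
    · let ι : C →ₐ[A] A₁ ⊗[A₀] C :=
        (Algebra.TensorProduct.includeRight (R := A₀) (A := A₁) (B := C)).restrictScalars A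
      have hν : ∀ q : C₀, ν ((1 : A') ⊗ₜ[A] q) = ι (q : C) := fun q => by
        rw [hνdef, latticeMap_eq, tensorMap_tmul, map_one]; rfl
      have hνt : ν (algebraMap A _ t) = algebraMap A _ t := ν.commutes t
      have hιt : ι (algebraMap A C t) = algebraMap A _ t := ι.commutes t
      have e3 : algebraMap A (A₁ ⊗[A₀] C) t ^ k * ι u ^ k = 1 := by
        rw [← mul_pow, ← hιt, ← map_mul, htu, map_one, one_pow]
      have e4 : algebraMap A (A₁ ⊗[A₀] C) t ^ k * e =
          ι (c : C) + algebraMap A (A₁ ⊗[A₀] C) t ^ (j + 4 * k + 3) * ν z := by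
        rw [← map_pow, ← Algebra.smul_def, hd', hcz, map_add, hν, map_smul, Algebra.smul_def, map_pow]
      show e - ι (e₀ + (2 * e₀ - 1) * (y : C)) = ν _
      rw [hy', map_mul, map_sub, map_smul, Algebra.smul_def, map_pow, hν, hνt, he₀]
      push_cast [hτC]
      rw [show ((2 : C₀) : C) = 2 from map_ofNat C₀.val 2]
      simp only [map_add, map_sub, map_mul, map_pow, map_one, map_ofNat, hιt]
      linear_combination ι u ^ k * e4 + (-e + algebraMap A (A₁ ⊗[A₀] C) t ^ (j + 3 * k + 3) * ν z -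
        2 * ι (c : C) * algebraMap A (A₁ ⊗[A₀] C) t ^ (k + 3) * ι (c4 : C) +
        algebraMap A (A₁ ⊗[A₀] C) t ^ (2 * k + 3) * ι (c4 : C) * 0) * e3

end

end Groth.L15.FEtHens
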