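import Groth.Agent.L15.FEtHens.Finite
import Groth.Agent.L15.FEtFields.Criterion
import Groth.Agent.L05.Henselization.Pair
import Mathlib.RingTheory.AdicCompletion.Completeness
import Mathlib.RingTheory.LaurentSeries

/-!
Finite étale covers of the localizations of two henselian pairs with the same reductions agree.
-/

set_option autoImplicit false
set_option linter.style.haveILetI false
universe u

open TensorProduct CategoryTheory AlgebraicGeometry Polynomial

namespace Groth.L15.FEtHens

theorem IsApprox.isEquivalence_restrict {A A' A₀ A₁ : Type u} [CommRing A] [CommRing A'] [Algebra A A']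
    [CommRing A₀] [CommRing A₁] [Algebra A A₀] [Algebra A A₁] [Algebra A' A₁] [Algebra A₀ A₁]
    [IsScalarTower A A' A₁] [IsScalarTower A A₀ A₁] {t : A} [IsLocalization.Away t A₀]
    [IsLocalization.Away (algebraMap A A' t) A₁] (h : IsApprox A A' t) :
    (FEt.restrict (Spec.map (CommRingCat.ofHom (algebraMap A₀ A₁)))).IsEquivalence := by
  refine Groth.L15.FEtFields.isEquivalence_restrict ?_ ?_
  · intro B B' _ _ _ _ _ _ _ _ ψ
    exact h.existsUnique_algHom ψ
  · intro C _ _ _ _
    exact h.exists_finite_etale C

/-- A henselian pair along a principal ideal and its completion. -/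
theorem isApprox_adicCompletion (A : Type u) [CommRing A] (t : A) [HenselianRing A (Ideal.span {t})] :
    IsApprox A (AdicCompletion (Ideal.span {t}) A) t := by
  set I : Ideal A := Ideal.span {t} with hI
  have hfg : I.FG := Submodule.fg_span_singleton t
  have key : ∀ (n : ℕ) (x : AdicCompletion I A), AdicCompletion.evalₐ I n x = 0 →
      algebraMap A (AdicCompletion I A) t ^ n ∣ x := by
    intro n x hx
    have h1 : x ∈ (AdicCompletion.eval I A n).ker := by
      have h : (I ^ n • ⊤ : Ideal A) = I ^ n := by ext y; simp
      exact (Ideal.quotientEquivAlgOfEq A h).injective (hx.trans (map_zero _).symm)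
    rw [← AdicCompletion.pow_smul_top_eq_ker_eval hfg, show I ^ n = Ideal.span {t ^ n} from Ideal.span_singleton_pow t n,
      Submodule.ideal_span_singleton_smul, Submodule.mem_smul_pointwise_iff_exists] at h1
    obtain ⟨y, -, rfl⟩ := h1
    exact ⟨y, by rw [Algebra.smul_def, map_pow]⟩
  refine ⟨fun n a' => ?_, fun n a ha => ?_, inferInstance, ?_⟩
  · obtain ⟨a, ha⟩ := Ideal.Quotient.mk_surjective (AdicCompletion.evalₐ I n a')
    refine ⟨a, key n _ ?_⟩
    rw [map_sub, AlgHom.commutes, ← ha, Ideal.Quotient.algebraMap_eq, sub_self]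
  · obtain ⟨c, hc⟩ := ha
    have h1 := congrArg (AdicCompletion.evalₐ I n) hc
    rw [map_mul, map_pow, AlgHom.commutes, AlgHom.commutes, Ideal.Quotient.algebraMap_eq, ← map_pow,
      Ideal.Quotient.eq_zero_iff_mem.2 (Ideal.pow_mem_pow (Ideal.mem_span_singleton_self t) n), zero_mul,
      Ideal.Quotient.eq_zero_iff_mem, hI, Ideal.span_singleton_pow, Ideal.mem_span_singleton] at h1
    exact h1
  · haveI : IsAdicComplete (Ideal.span {algebraMap A (AdicCompletion I A) t}) (AdicCompletion I A) := by
      rw [← Set.image_singleton, ← Ideal.map_span, IsAdicComplete.map_algebraMap_iff]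
      exact AdicCompletion.isAdicComplete hfg
    infer_instance

variable {R : Type u} [CommRing R] {B : Type u} [CommRing B] [Algebra R[X] B]

/-- The henselization of `R[X]` along `X` and the power series ring. -/
theorem isApprox_powerSeries (hB : Hens2.IsPairHenselization R[X] (Ideal.span {(X : R[X])}) B)
    (ψ : B →ₐ[R[X]] PowerSeries R) :
    letI := ψ.toRingHom.toAlgebra
    IsApprox B (PowerSeries R) (algebraMap R[X] B X) := by
  letI := ψ.toRingHom.toAlgebra
  have hψ : ∀ q : R[X], algebraMap B (PowerSeries R) (algebraMap R[X] B q) = (q : PowerSeries R) := by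
    intro q
    refine (ψ.commutes q).trans ?_
    simp [PowerSeries.algebraMap_apply']
  have hτ : algebraMap B (PowerSeries R) (algebraMap R[X] B X) = PowerSeries.X := by
    rw [hψ, Polynomial.coe_X]
  refine ⟨fun n a' => ⟨algebraMap R[X] B (a'.trunc n), ?_⟩, fun n a ha => ?_, ?_, ?_⟩
  · rw [hτ, hψ, PowerSeries.X_pow_dvd_iff]
    intro m hm
    rw [map_sub, PowerSeries.coeff_coe_trunc_of_lt hm, sub_self]
  · obtain ⟨x, hx⟩ := (Groth.L05.Henselization.quotientMap_pow_bijective _ _ hB n).2 (Ideal.Quotient.mk _ a)
    obtain ⟨q, rfl⟩ := Ideal.Quotient.mk_surjective x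
    rw [Ideal.quotientMap_mk, eq_comm, Ideal.Quotient.eq, Ideal.span_singleton_pow, Ideal.map_span,
      Set.image_singleton, map_pow, Ideal.mem_span_singleton] at hx
    obtain ⟨d, hd⟩ := hx
    have hq : (PowerSeries.X : PowerSeries R) ^ n ∣ (q : PowerSeries R) := by
      have h1 := congrArg (algebraMap B (PowerSeries R)) hd
      rw [map_sub, map_mul, map_pow, hψ, hτ] at h1
      rw [hτ] at ha
      obtain ⟨c, hc⟩ := ha
      exact ⟨c - algebraMap B (PowerSeries R) d, by rw [mul_sub, ← hc, ← h1]; ring⟩
    have hq' : X ^ n ∣ q := by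
      rw [Polynomial.X_pow_dvd_iff]
      intro m hm
      rw [← Polynomial.coeff_coe]
      exact PowerSeries.X_pow_dvd_iff.1 hq m hm
    obtain ⟨c, rfl⟩ := hq'
    exact ⟨d + algebraMap R[X] B c, by rw [mul_add, ← hd, map_mul, map_pow]; ring⟩
  · have h := hB.1
    rwa [Ideal.map_span, Set.image_singleton] at h
  · rw [hτ]
    infer_instance

theorem isEquivalence_restrict_laurentSeries
    (hB : Hens2.IsPairHenselization R[X] (Ideal.span {(X : R[X])}) B) (ψ : B →ₐ[R[X]] PowerSeries R)
    (χ : Localization.Away (algebraMap R[X] B X) →+* LaurentSeries R)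
    (hχ : χ.comp (algebraMap B (Localization.Away (algebraMap R[X] B X))) =
      (HahnSeries.ofPowerSeries ℤ R).comp ψ.toRingHom) :
    (FEt.restrict (Spec.map (CommRingCat.ofHom χ))).IsEquivalence := by
  letI := ψ.toRingHom.toAlgebra
  letI := ((algebraMap (PowerSeries R) (LaurentSeries R)).comp ψ.toRingHom).toAlgebra
  haveI : IsScalarTower B (PowerSeries R) (LaurentSeries R) := IsScalarTower.of_algebraMap_eq fun _ => rfl
  letI := χ.toAlgebra
  haveI : IsScalarTower B (Localization.Away (algebraMap R[X] B X)) (LaurentSeries R) :=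
    IsScalarTower.of_algebraMap_eq fun b => (RingHom.congr_fun hχ b).symm
  have hτ : algebraMap B (PowerSeries R) (algebraMap R[X] B X) = PowerSeries.X := by
    refine (ψ.commutes X).trans ?_
    simp [PowerSeries.algebraMap_apply']
  haveI : IsLocalization.Away (algebraMap B (PowerSeries R) (algebraMap R[X] B X)) (LaurentSeries R) := by
    rw [hτ]
    exact LaurentSeries.of_powerSeries_localization
  exact (isApprox_powerSeries hB ψ).isEquivalence_restrict

theorem isEquivalence_restrict_away_completion (A : Type u) [CommRing A] (t : A)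
    [HenselianRing A (Ideal.span {t})] :
    (FEt.restrict (Spec.map (CommRingCat.ofHom (Localization.awayMap
      (algebraMap A (AdicCompletion (Ideal.span {t}) A)) t)))).IsEquivalence := by
  let A' := AdicCompletion (Ideal.span {t}) A
  letI := (Localization.awayMap (algebraMap A A') t).toAlgebra
  haveI : IsScalarTower A (Localization.Away t) (Localization.Away (algebraMap A A' t)) :=
    IsScalarTower.of_algebraMap_eq fun a => by
      simp [RingHom.algebraMap_toAlgebra, Localization.awayMap, IsLocalization.Away.map,
        IsScalarTower.algebraMap_apply A A' (Localization.Away (algebraMap A A' t)) a]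
  exact (isApprox_adicCompletion A t).isEquivalence_restrict

end Groth.L15.FEtHens
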