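import Groth.Agent.L15.FEtHens.Elkik
import Groth.Agent.L15.FEtHens.Main
import Groth.Agent.L09.TorsorSch
import Groth.Agent.L09.PowSerSection

/-!
A torsor under a smooth affine group with a point over the big localization is trivial.
-/

set_option autoImplicit false
set_option linter.style.haveILetI false
set_option backward.isDefEq.respectTransparency.types false
universe u

open CategoryTheory CategoryTheory.Limits AlgebraicGeometry

namespace Groth.L15.FEtHens

theorem IsApprox.hasSectionOver {A A' A₀ A₁ : Type u} [CommRing A] [CommRing A'] [Algebra A A']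
    [CommRing A₀] [CommRing A₁] [Algebra A A₀] [Algebra A A₁] [Algebra A' A₁] [Algebra A₀ A₁]
    [IsScalarTower A A' A₁] [IsScalarTower A A₀ A₁] {t : A} [IsLocalization.Away t A₀]
    [IsLocalization.Away (algebraMap A A' t) A₁] (h : IsApprox A A' t)
    (G : Over (Spec (CommRingCat.of A₀))) [GrpObj G] [IsAffine G.left] [Smooth G.hom]
    (P : Over (Spec (CommRingCat.of A₀))) (a : AlgGrp.Action G P)
    (hP : NonAbH1.IsTorsorFor Scheme.fppfPrecoverage a)
    (hsec : NonAbH1.HasSectionOver P (Spec.map (CommRingCat.ofHom (algebraMap A₀ A₁)))) :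
    NonAbH1.HasSectionOver P (𝟙 (Spec (CommRingCat.of A₀))) := by
  obtain ⟨hps, R, hR, hloc⟩ := hP
  have hP' : NonAbH1.IsTorsorFor Scheme.fpqcPrecoverage a :=
    ⟨hps, R, Scheme.fppfPrecoverage_le_fpqcPrecoverage _ hR, hloc⟩
  haveI : IsAffineHom G.hom := inferInstance
  haveI : IsAffineHom P.hom := Groth.L09.TorsorSch.of_grp @IsAffineHom a hP' inferInstance
  haveI : Smooth P.hom := Groth.L09.TorsorSch.of_grp @Smooth a hP' inferInstance
  haveI : IsAffine P.left := isAffine_of_isAffineHom P.hom
  let α : CommRingCat.of A₀ ⟶ Γ(P.left, ⊤) := Spec.preimage (P.left.isoSpec.inv ≫ P.hom)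
  have hα : Spec.map α = P.left.isoSpec.inv ≫ P.hom := Spec.map_preimage _
  letI := α.hom.toAlgebra
  haveI : Algebra.Smooth A₀ Γ(P.left, ⊤) := by
    have : Smooth (Spec.map α) := by rw [hα]; infer_instance
    exact (HasRingHomProperty.Spec_iff (P := @Smooth)).1 this
  obtain ⟨s, hs⟩ := hsec
  let χ : Γ(P.left, ⊤) ⟶ CommRingCat.of A₁ := Spec.preimage (s ≫ P.left.isoSpec.hom)
  have hχ : α ≫ χ = CommRingCat.ofHom (algebraMap A₀ A₁) := Spec.map_injective (by
    rw [Spec.map_comp, Spec.map_preimage, hα, Category.assoc, Iso.hom_inv_id_assoc]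
    exact hs)
  let x : Γ(P.left, ⊤) →ₐ[A₀] A₁ :=
    { χ.hom with commutes' := fun r => congrArg (fun f : CommRingCat.of A₀ ⟶ CommRingCat.of A₁ => f.hom r) hχ }
  obtain ⟨y⟩ := h.exists_algHom_of_smooth Γ(P.left, ⊤) x
  have hy : α ≫ CommRingCat.ofHom y.toRingHom = 𝟙 (CommRingCat.of A₀) :=
    CommRingCat.hom_ext (RingHom.ext fun r => y.commutes r)
  refine ⟨Spec.map (CommRingCat.ofHom y.toRingHom) ≫ P.left.isoSpec.inv, ?_⟩
  rw [Category.assoc, ← hα, ← Spec.map_comp]
  exact (congrArg Spec.map hy).trans (Spec.map_id _)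

theorem hasSectionOver_of_completion (A : Type u) [CommRing A] (t : A) [HenselianRing A (Ideal.span {t})]
    (G : Over (Spec (CommRingCat.of (Localization.Away t)))) [GrpObj G] [IsAffine G.left] [Smooth G.hom]
    (P : Over (Spec (CommRingCat.of (Localization.Away t)))) (a : AlgGrp.Action G P)
    (hP : NonAbH1.IsTorsorFor Scheme.fppfPrecoverage a)
    (hsec : NonAbH1.HasSectionOver P (Spec.map (CommRingCat.ofHom (Localization.awayMap
      (algebraMap A (AdicCompletion (Ideal.span {t}) A)) t)))) :
    NonAbH1.HasSectionOver P (𝟙 (Spec (CommRingCat.of (Localization.Away t)))) := by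
  let A' := AdicCompletion (Ideal.span {t}) A
  letI := (Localization.awayMap (algebraMap A A') t).toAlgebra
  haveI : IsScalarTower A (Localization.Away t) (Localization.Away (algebraMap A A' t)) :=
    IsScalarTower.of_algebraMap_eq fun a => by
      simp [RingHom.algebraMap_toAlgebra, Localization.awayMap, IsLocalization.Away.map,
        IsScalarTower.algebraMap_apply A A' (Localization.Away (algebraMap A A' t)) a]
  exact (isApprox_adicCompletion A t).hasSectionOver G P a hP hsec

end Groth.L15.FEtHens

namespace Groth.L15.FEtHens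

open Polynomial

/-- Sections over the Laurent series field descend to the henselian Laurent series ring. -/
theorem hasSectionOver_of_laurentSeries (R : Type u) [CommRing R] (B : Type u) [CommRing B] [Algebra R[X] B]
    (hB : Hens2.IsPairHenselization R[X] (Ideal.span {(X : R[X])}) B) (ψ : B →ₐ[R[X]] PowerSeries R)
    (χ : Localization.Away (algebraMap R[X] B X) →+* LaurentSeries R)
    (hχ : χ.comp (algebraMap B (Localization.Away (algebraMap R[X] B X))) =
      (HahnSeries.ofPowerSeries ℤ R).comp ψ.toRingHom)
    (G : Over (Spec (CommRingCat.of (Localization.Away (algebraMap R[X] B X))))) [GrpObj G]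
    [IsAffine G.left] [Smooth G.hom]
    (P : Over (Spec (CommRingCat.of (Localization.Away (algebraMap R[X] B X))))) (a : AlgGrp.Action G P)
    (hP : NonAbH1.IsTorsorFor Scheme.fppfPrecoverage a)
    (hsec : NonAbH1.HasSectionOver P (Spec.map (CommRingCat.ofHom χ))) :
    NonAbH1.HasSectionOver P (𝟙 (Spec (CommRingCat.of (Localization.Away (algebraMap R[X] B X))))) := by
  letI := ψ.toRingHom.toAlgebra
  letI := ((algebraMap (PowerSeries R) (LaurentSeries R)).comp ψ.toRingHom).toAlgebra
  haveI : IsScalarTower B (PowerSeries R) (LaurentSeries R) := IsScalarTower.of_algebraMap_eq fun _ => rfl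
  letI := χ.toAlgebra
  haveI : IsScalarTower B (Localization.Away (algebraMap R[X] B X)) (LaurentSeries R) :=
    IsScalarTower.of_algebraMap_eq fun b => (RingHom.congr_fun hχ b).symm
  have hτ : algebraMap B (PowerSeries R) (algebraMap R[X] B X) = PowerSeries.X := by
    refine (ψ.commutes X).trans ?_
    simp [PowerSeries.algebraMap_apply']
  haveI : IsLocalization.Away (algebraMap B (PowerSeries R) (algebraMap R[X] B X)) (LaurentSeries R) := by
    rw [hτ]
    exact LaurentSeries.of_powerSeries_localization
  exact (isApprox_powerSeries hB ψ).hasSectionOver G P a hP hsec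

end Groth.L15.FEtHens
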